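/-
The Sylow 2-subgroup of a symmetric group as the stabiliser of the dyadic partitions
`a ↦ a / 2 ^ i`, and its self-normalisation in `S_n` and (intersected) in `A_n`, `n ≥ 6`.
-/
import Mathlib.GroupTheory.SpecificGroups.Alternating
import Mathlib.GroupTheory.Sylow
import Mathlib.Tactic.Ring

set_option autoImplicit false

namespace CfsgLib.SylowAlt

open Equiv

variable {n : ℕ}

/-- Permutations preserving the partition of `Fin n` into the classes of `a ↦ a / 2 ^ i`. -/
def levelStab (n i : ℕ) : Subgroup (Perm (Fin n)) where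
  carrier := {σ | ∀ a b : Fin n,
    (σ a).val / 2 ^ i = (σ b).val / 2 ^ i ↔ a.val / 2 ^ i = b.val / 2 ^ i}
  mul_mem' {σ τ} hs ht a b := by simp only [Perm.mul_apply, hs _ _, ht a b]
  one_mem' a b := by simp
  inv_mem' {σ} hs a b := by simpa using (hs (σ⁻¹ a) (σ⁻¹ b)).symm

theorem mem_levelStab {i : ℕ} {σ : Perm (Fin n)} :
    σ ∈ levelStab n i ↔ ∀ a b : Fin n,
      (σ a).val / 2 ^ i = (σ b).val / 2 ^ i ↔ a.val / 2 ^ i = b.val / 2 ^ i := Iff.rfl

/-- The dyadic tree group: all levels preserved at once. -/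
def tree (n : ℕ) : Subgroup (Perm (Fin n)) := ⨅ i, levelStab n i

theorem mem_tree {σ : Perm (Fin n)} : σ ∈ tree n ↔ ∀ i, σ ∈ levelStab n i := by
  simp [tree, Subgroup.mem_iInf]

theorem tree_le_levelStab (i : ℕ) : tree n ≤ levelStab n i := iInf_le _ i

private theorem last_class_aux {i : ℕ} {σ : Perm (Fin n)} (h : σ ∈ levelStab n i) {a : Fin n}
    (hlast : (σ a).val / 2 ^ i = n / 2 ^ i) : a.val / 2 ^ i = n / 2 ^ i := by
  by_contra hne
  set c := a.val / 2 ^ i with hc
  have hp : 0 < 2 ^ i := Nat.two_pow_pos i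
  have hle : c < n / 2 ^ i := lt_of_le_of_ne (Nat.div_le_div_right a.isLt.le) hne
  have hlt : ∀ r : Fin (2 ^ i), c * 2 ^ i + r.val < n := fun r => by
    have h1 : (c + 1) * 2 ^ i ≤ n :=
      le_trans (Nat.mul_le_mul_right _ hle) (Nat.div_mul_le_self n _)
    have h2 := r.isLt
    rw [Nat.add_mul, Nat.one_mul] at h1
    omega
  have himg : ∀ r : Fin (2 ^ i), (σ ⟨_, hlt r⟩).val / 2 ^ i = n / 2 ^ i := fun r => by
    rw [← hlast, h]
    simp only [← hc]
    rw [Nat.mul_comm, Nat.mul_add_div hp, Nat.div_eq_of_lt r.isLt, Nat.add_zero]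
  have hmod : ∀ r : Fin (2 ^ i), (σ ⟨_, hlt r⟩).val % 2 ^ i < n % 2 ^ i := fun r => by
    have h1 := Nat.div_add_mod (σ ⟨_, hlt r⟩).val (2 ^ i)
    have h2 := Nat.div_add_mod n (2 ^ i)
    rw [himg r] at h1
    have h3 := (σ ⟨_, hlt r⟩).isLt
    omega
  have hinj : Function.Injective
      (fun r : Fin (2 ^ i) => (⟨_, hmod r⟩ : Fin (n % 2 ^ i))) := by
    intro r s hrs
    simp only [Fin.mk.injEq] at hrs
    have he : (σ ⟨_, hlt r⟩).val = (σ ⟨_, hlt s⟩).val := by
      rw [← Nat.div_add_mod (σ ⟨_, hlt r⟩).val (2 ^ i),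
        ← Nat.div_add_mod (σ ⟨_, hlt s⟩).val (2 ^ i), himg r, himg s, hrs]
    have h4 := congrArg Fin.val (σ.injective (Fin.ext he))
    exact Fin.ext (Nat.add_left_cancel h4)
  have := Fintype.card_le_of_injective _ hinj
  simp only [Fintype.card_fin] at this
  exact absurd (Nat.mod_lt n hp) (not_lt.mpr this)

/-- A level stabiliser fixes the short last class. -/
theorem last_class {i : ℕ} {σ : Perm (Fin n)} (h : σ ∈ levelStab n i) (a : Fin n) :
    (σ a).val / 2 ^ i = n / 2 ^ i ↔ a.val / 2 ^ i = n / 2 ^ i := by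
  refine ⟨last_class_aux h, fun ha => ?_⟩
  refine last_class_aux (σ := σ⁻¹) ((levelStab n i).inv_mem h) ?_
  simpa using ha

theorem isPGroup_tree (n : ℕ) : IsPGroup 2 (tree n) := by
  rintro ⟨σ, hσ⟩
  have key : ∀ d i : ℕ, n ≤ 2 ^ (i + d) → ∃ m : ℕ, ∀ a : Fin n,
      ((σ ^ (2 ^ m)) a).val / 2 ^ i = a.val / 2 ^ i := by
    intro d
    induction d with
    | zero =>
      intro i hi
      refine ⟨0, fun a => ?_⟩
      rw [Nat.add_zero] at hi
      rw [Nat.div_eq_of_lt (lt_of_lt_of_le (Fin.isLt _) hi),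
        Nat.div_eq_of_lt (lt_of_lt_of_le a.isLt hi)]
    | succ d ih =>
      intro i hi
      obtain ⟨m, hm⟩ := ih (i + 1) (by rwa [Nat.add_right_comm, Nat.add_assoc] )
      refine ⟨m + 1, fun a => ?_⟩
      set τ := σ ^ (2 ^ m) with hτ
      have hτl : τ ∈ levelStab n i :=
        tree_le_levelStab i ((tree n).pow_mem hσ _)
      rw [pow_succ, pow_mul, ← hτ, pow_two, Perm.mul_apply]
      have e1 := hm a
      have e2 := hm (τ a)
      rw [pow_succ, ← Nat.div_div_eq_div_mul, ← Nat.div_div_eq_div_mul] at e1 e2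
      have h3 := hτl (τ a) a
      omega
  obtain ⟨m, hm⟩ := key n 0 (by simpa using n.lt_two_pow_self.le)
  refine ⟨m, Subtype.ext (Equiv.ext fun a => Fin.ext ?_)⟩
  simpa using hm a

theorem half_lt (a : Fin n) (ha : a.val < 2 * (n / 2)) : a.val / 2 < n / 2 := by omega

/-- Lift of a permutation of the pairs `{2j, 2j+1}` to the points. -/
def liftFun (τ : Perm (Fin (n / 2))) (a : Fin n) : Fin n :=
  if ha : a.val < 2 * (n / 2) then
    ⟨2 * (τ ⟨a.val / 2, half_lt a ha⟩).val + a.val % 2, by
      have := (τ ⟨a.val / 2, half_lt a ha⟩).isLt; omega⟩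
  else a

theorem liftFun_val {τ : Perm (Fin (n / 2))} {a : Fin n} (ha : a.val < 2 * (n / 2)) :
    (liftFun τ a).val = 2 * (τ ⟨a.val / 2, half_lt a ha⟩).val + a.val % 2 := by
  simp [liftFun, ha]

theorem liftFun_of_not {τ : Perm (Fin (n / 2))} {a : Fin n} (ha : ¬a.val < 2 * (n / 2)) :
    liftFun τ a = a := by simp [liftFun, ha]

theorem liftFun_one (a : Fin n) : liftFun 1 a = a := by
  by_cases ha : a.val < 2 * (n / 2)
  · apply Fin.ext
    rw [liftFun_val ha, Perm.one_apply]
    exact Nat.div_add_mod a.val 2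
  · exact liftFun_of_not ha

theorem liftFun_mul (σ τ : Perm (Fin (n / 2))) (a : Fin n) :
    liftFun (σ * τ) a = liftFun σ (liftFun τ a) := by
  by_cases ha : a.val < 2 * (n / 2)
  · have h1 := liftFun_val (τ := τ) ha
    have hlt := (τ ⟨a.val / 2, half_lt a ha⟩).isLt
    have h2 : (liftFun τ a).val < 2 * (n / 2) := by omega
    apply Fin.ext
    rw [liftFun_val ha, liftFun_val h2, Perm.mul_apply]
    have h3 : (⟨(liftFun τ a).val / 2, half_lt _ h2⟩ : Fin (n / 2)) =
        τ ⟨a.val / 2, half_lt a ha⟩ := by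
      apply Fin.ext; simp only; omega
    rw [h3]
    omega
  · rw [liftFun_of_not ha, liftFun_of_not ha, liftFun_of_not ha]

/-- The pair lift as a homomorphism. -/
def lift (n : ℕ) : Perm (Fin (n / 2)) →* Perm (Fin n) where
  toFun τ :=
    { toFun := liftFun τ
      invFun := liftFun τ⁻¹
      left_inv := fun a => by rw [← liftFun_mul, inv_mul_cancel, liftFun_one]
      right_inv := fun a => by rw [← liftFun_mul, mul_inv_cancel, liftFun_one] }
  map_one' := Equiv.ext liftFun_one
  map_mul' σ τ := Equiv.ext (liftFun_mul σ τ)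

@[simp] theorem lift_apply (τ : Perm (Fin (n / 2))) (a : Fin n) :
    lift n τ a = liftFun τ a := rfl

/-- The transposition of the `j`-th pair. -/
def pairSwap (j : Fin (n / 2)) : Perm (Fin n) :=
  swap ⟨2 * j.val, by omega⟩ ⟨2 * j.val + 1, by omega⟩

theorem lift_swap (b c : Fin (n / 2)) :
    lift n (swap b c) = swap (⟨2 * b.val, by omega⟩ : Fin n) ⟨2 * c.val, by omega⟩ *
      swap (⟨2 * b.val + 1, by omega⟩ : Fin n) ⟨2 * c.val + 1, by omega⟩ := by
  ext a
  rw [Perm.mul_apply, lift_apply]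
  by_cases ha : a.val < 2 * (n / 2)
  · rw [liftFun_val ha]
    simp only [swap_apply_def, Fin.ext_iff]
    split_ifs <;> (try simp only at *) <;> omega
  · rw [liftFun_of_not ha]
    simp only [swap_apply_def, Fin.ext_iff]
    split_ifs <;> (try simp only at *) <;> omega

theorem sign_lift (τ : Perm (Fin (n / 2))) : Perm.sign (lift n τ) = 1 := by
  induction τ using Perm.swap_induction_on with
  | one => simp
  | swap_mul f x y hxy ih =>
    rw [map_mul, map_mul, ih, lift_swap, map_mul, Perm.sign_swap, Perm.sign_swap]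
    · simp
    · simp only [ne_eq, Fin.mk.injEq]; intro h; exact hxy (Fin.ext (by omega))
    · simp only [ne_eq, Fin.mk.injEq]; intro h; exact hxy (Fin.ext (by omega))

theorem sign_pairSwap (j : Fin (n / 2)) : Perm.sign (pairSwap j) = -1 :=
  Perm.sign_swap (by simp [Fin.ext_iff])

theorem pairSwap_div (j : Fin (n / 2)) (a : Fin n) : (pairSwap j a).val / 2 = a.val / 2 := by
  simp only [pairSwap, swap_apply_def, Fin.ext_iff]
  split_ifs <;> (try simp only at *) <;> omega

theorem pairSwap_mem_tree (j : Fin (n / 2)) : pairSwap j ∈ tree n := by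
  rw [mem_tree]
  intro i a b
  cases i with
  | zero => simp [Fin.val_inj]
  | succ i =>
    rw [pow_succ', ← Nat.div_div_eq_div_mul, ← Nat.div_div_eq_div_mul, pairSwap_div, pairSwap_div,
      Nat.div_div_eq_div_mul, Nat.div_div_eq_div_mul]

theorem pairSwap_apply_of_ne {j : Fin (n / 2)} {a : Fin n} (h : a.val / 2 ≠ j.val) :
    pairSwap j a = a := by
  simp only [pairSwap]
  apply swap_apply_of_ne_of_ne <;> (intro e; apply h; simp [e]; try omega)

theorem pairSwap_apply_ne {j : Fin (n / 2)} {a : Fin n} (h : a.val / 2 = j.val) :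
    pairSwap j a ≠ a := by
  simp only [pairSwap, swap_apply_def, Fin.ext_iff, ne_eq]
  split_ifs <;> (try simp only at *) <;> omega

/-- Extension of a permutation of `Fin m` to `ℕ` by the identity. -/
def extNat {m : ℕ} (τ : Perm (Fin m)) (b : ℕ) : ℕ := if h : b < m then (τ ⟨b, h⟩).val else b

theorem extNat_level {m i : ℕ} {τ : Perm (Fin m)} (hτ : τ ∈ levelStab m i) {b c : ℕ}
    (hb : b ≤ m) (hc : c ≤ m) :
    extNat τ b / 2 ^ i = extNat τ c / 2 ^ i ↔ b / 2 ^ i = c / 2 ^ i := by
  unfold extNat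
  split_ifs with h1 h2 h2
  · exact hτ ⟨b, h1⟩ ⟨c, h2⟩
  · obtain rfl : c = m := by omega
    exact last_class hτ ⟨b, h1⟩
  · obtain rfl : b = m := by omega
    rw [eq_comm, last_class hτ ⟨c, h2⟩, eq_comm]
  · rfl

theorem mem_tree_of_half {σ : Perm (Fin n)} {τ : Perm (Fin (n / 2))} (hτ : τ ∈ tree (n / 2))
    (h : ∀ a : Fin n, (σ a).val / 2 = extNat τ (a.val / 2)) : σ ∈ tree n := by
  rw [mem_tree]
  intro i a b
  cases i with
  | zero => simp [Fin.val_inj]
  | succ i =>
    rw [pow_succ', ← Nat.div_div_eq_div_mul, ← Nat.div_div_eq_div_mul, h, h,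
      ← Nat.div_div_eq_div_mul, ← Nat.div_div_eq_div_mul,
      extNat_level (mem_tree.mp hτ i) (Nat.div_le_div_right a.isLt.le)
        (Nat.div_le_div_right b.isLt.le)]

theorem lift_mem_tree {τ : Perm (Fin (n / 2))} (hτ : τ ∈ tree (n / 2)) : lift n τ ∈ tree n := by
  refine mem_tree_of_half hτ fun a => ?_
  rw [lift_apply]
  by_cases ha : a.val < 2 * (n / 2)
  · rw [liftFun_val ha, extNat, dif_pos (half_lt a ha)]
    omega
  · rw [liftFun_of_not ha, extNat, dif_neg (by omega)]

/-- Common hypothesis form: `W` contains the even part of the tree group and lies in it. -/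
theorem mem_tree_of_conj : ∀ (n : ℕ) (W : Subgroup (Perm (Fin n))), W ≤ tree n →
    (∀ σ ∈ tree n, Perm.sign σ = 1 → σ ∈ W) → (6 ≤ n ∨ W = tree n) →
    ∀ x : Perm (Fin n), (∀ w ∈ W, x * w * x⁻¹ ∈ W) → x ∈ tree n := by
  intro n
  induction n using Nat.strong_induction_on with
  | _ n IH =>
  intro W hW heven hn x hx
  classical
  rcases Nat.lt_or_ge n 2 with h2 | h2
  · rw [mem_tree]
    intro i a b
    have e : ∀ c d : Fin n, c = d := fun c d => Fin.ext (by omega)
    simp [e (x a) a, e (x b) b]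
  -- conjugation by `x⁻¹` preserves `W` too
  have hxinv : ∀ w ∈ W, x⁻¹ * w * x ∈ W := by
    intro w hw
    let f : W → W := fun v => ⟨x * v.1 * x⁻¹, hx v.1 v.2⟩
    have hf : Function.Injective f := by
      intro u v huv
      exact Subtype.ext (mul_left_cancel (mul_right_cancel (congrArg Subtype.val huv)))
    obtain ⟨v, hv⟩ := (Finite.injective_iff_surjective.mp hf) ⟨w, hw⟩
    have hv' : x * v.1 * x⁻¹ = w := congrArg Subtype.val hv
    have : x⁻¹ * w * x = v.1 := by rw [← hv']; group
    rw [this]; exact v.2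
  -- a witness moving a paired point
  have wit : ∀ a b : Fin n, a.val / 2 ≠ b.val / 2 → b.val / 2 < n / 2 →
      ∃ w ∈ W, w a = a ∧ w b ≠ b := by
    intro a b hab hb
    rcases hn with hn | hn
    · obtain ⟨j, hja, hjb⟩ : ∃ j : Fin (n / 2), j.val ≠ a.val / 2 ∧ j.val ≠ b.val / 2 := by
        by_contra hc
        simp only [not_exists, not_and, not_not] at hc
        have h0 := hc ⟨0, by omega⟩
        have h1 := hc ⟨1, by omega⟩
        have h2 := hc ⟨2, by omega⟩
        simp only at h0 h1 h2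
        omega
      refine ⟨pairSwap j * pairSwap ⟨_, hb⟩, heven _
        ((tree n).mul_mem (pairSwap_mem_tree _) (pairSwap_mem_tree _)) ?_, ?_, ?_⟩
      · rw [map_mul, sign_pairSwap, sign_pairSwap]; rfl
      · rw [Perm.mul_apply, pairSwap_apply_of_ne (j := ⟨_, hb⟩) hab,
          pairSwap_apply_of_ne (fun e => hja e.symm)]
      · rw [Perm.mul_apply]
        have h1 : (pairSwap (⟨_, hb⟩ : Fin (n / 2)) b).val / 2 ≠ j.val := by
          rw [pairSwap_div]; exact fun e => hjb e.symm
        rw [pairSwap_apply_of_ne h1]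
        exact pairSwap_apply_ne rfl
    · exact ⟨_, hn ▸ pairSwap_mem_tree ⟨_, hb⟩, pairSwap_apply_of_ne hab, pairSwap_apply_ne rfl⟩
  have char : ∀ a b : Fin n, a.val / 2 = b.val / 2 ↔
      ((∀ w ∈ W, w a = a → w b = b) ∧ (∀ w ∈ W, w b = b → w a = a)) := by
    intro a b
    constructor
    · intro hab
      have main : ∀ a b : Fin n, a.val / 2 = b.val / 2 → ∀ w ∈ W, w a = a → w b = b := by
        intro a b hab w hw hwa
        by_cases he : a = b
        · rw [← he]; exact hwa
        have h1 := (mem_tree.mp (hW hw) 1 b a)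
        rw [hwa, pow_one] at h1
        have h4 := h1.mpr hab.symm
        have h3 : w b ≠ a := fun e => he (w.injective (by rw [hwa, e]))
        apply Fin.ext
        have h6 : a.val ≠ b.val := fun e => he (Fin.ext e)
        have h5 : (w b).val ≠ a.val := fun e => h3 (Fin.ext e)
        omega
      exact ⟨main a b hab, main b a hab.symm⟩
    · rintro ⟨h1, h2'⟩
      by_contra hne
      by_cases hb : b.val / 2 < n / 2
      · obtain ⟨w, hw, e1, e2⟩ := wit a b hne hb
        exact e2 (h1 w hw e1)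
      · have ha : a.val / 2 < n / 2 := by omega
        obtain ⟨w, hw, e1, e2⟩ := wit b a (Ne.symm hne) ha
        exact e2 (h2' w hw e1)
  have hlev : x ∈ levelStab n 1 := by
    intro a b
    rw [pow_one, char, char]
    constructor
    · rintro ⟨p, q⟩
      constructor
      · intro w hw e
        simpa using p _ (hx w hw) (by simp [e])
      · intro w hw e
        simpa using q _ (hx w hw) (by simp [e])
    · rintro ⟨p, q⟩
      constructor
      · intro w hw e
        simpa [Equiv.symm_apply_eq] using p _ (hxinv w hw) (by simp [e])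
      · intro w hw e
        simpa [Equiv.symm_apply_eq] using q _ (hxinv w hw) (by simp [e])
  have hlast : ∀ a : Fin n, (x a).val < 2 * (n / 2) ↔ a.val < 2 * (n / 2) := by
    intro a
    have := last_class hlev a
    simp only [pow_one] at this
    omega
  have hpair : ∀ a b : Fin n, a.val / 2 = b.val / 2 → (x a).val / 2 = (x b).val / 2 := fun a b h =>
    by simpa using (hlev a b).mpr (by simpa using h)
  let g : Fin (n / 2) → Fin (n / 2) := fun b =>
    ⟨(x ⟨2 * b.val, by omega⟩).val / 2, by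
      have := (hlast ⟨2 * b.val, by omega⟩).mpr (by simp only; omega); omega⟩
  have hg : Function.Injective g := by
    intro b c e
    have h := (hlev ⟨2 * b.val, by omega⟩ ⟨2 * c.val, by omega⟩).mp (by
      simpa using congrArg Fin.val e)
    apply Fin.ext
    simp only [pow_one] at h
    omega
  let τ : Perm (Fin (n / 2)) := Equiv.ofBijective g (Finite.injective_iff_bijective.mp hg)
  have hτval : ∀ a : Fin n, (x a).val / 2 = extNat τ (a.val / 2) := by
    intro a
    unfold extNat
    split_ifs with h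
    · exact hpair a ⟨2 * (a.val / 2), by omega⟩ (by simp only; omega)
    · have := hlast a
      have := (x a).isLt
      omega
  refine mem_tree_of_half (IH (n / 2) (by omega) (tree (n / 2)) le_rfl (fun _ h _ => h)
    (Or.inr rfl) τ ?_) hτval
  intro t ht
  have hw : x * lift n t * x⁻¹ ∈ tree n :=
    hW (hx _ (heven _ (lift_mem_tree ht) (sign_lift t)))
  rw [mem_tree]
  intro i b c
  have key : ∀ b : Fin (n / 2), ∃ p : Fin n,
      p.val / 2 = b.val ∧ ((x * lift n t * x⁻¹) p).val / 2 = (τ (t (τ⁻¹ b))).val := by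
    intro b
    obtain ⟨d, rfl⟩ := τ.surjective b
    refine ⟨x ⟨2 * d.val, by omega⟩, rfl, ?_⟩
    simp only [Perm.mul_apply, lift_apply, Perm.inv_def, Equiv.symm_apply_apply]
    rw [hτval, extNat]
    have hd : (⟨2 * d.val, by omega⟩ : Fin n).val < 2 * (n / 2) := by simp only; omega
    have hv := liftFun_val (τ := t) hd
    have hd2 : (⟨(⟨2 * d.val, by omega⟩ : Fin n).val / 2, half_lt _ hd⟩ : Fin (n / 2)) = d := by
      apply Fin.ext; simp only; omega
    rw [hd2] at hv
    simp only at hv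
    have hlt := (t d).isLt
    have hlt2 : (liftFun t (⟨2 * d.val, by omega⟩ : Fin n)).val / 2 < n / 2 := by omega
    rw [dif_pos hlt2]
    congr 2
    apply Fin.ext
    simp only
    omega
  obtain ⟨p, hp, hp'⟩ := key b
  obtain ⟨r, hr, hr'⟩ := key c
  have := mem_tree.mp hw (i + 1) p r
  rw [pow_succ', ← Nat.div_div_eq_div_mul, ← Nat.div_div_eq_div_mul,
    ← Nat.div_div_eq_div_mul, ← Nat.div_div_eq_div_mul, hp, hp', hr, hr'] at this
  simpa only [Perm.mul_apply] using this

/-- Transitivity on complete dyadic classes, by elements of prescribed membership. -/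
theorem exists_tree_apply (n i : ℕ) : ∀ {a b : Fin n}, a.val / 2 ^ i = b.val / 2 ^ i →
    a.val / 2 ^ i < n / 2 ^ i → ∃ σ ∈ tree n, σ a = b := by
  induction i generalizing n with
  | zero =>
    intro a b h _
    exact ⟨1, (tree n).one_mem, Fin.ext (by simpa using h)⟩
  | succ i ih =>
    intro a b h hlt
    simp only [pow_succ', ← Nat.div_div_eq_div_mul] at h hlt
    have ha : a.val / 2 < n / 2 := by
      by_contra hge
      exact absurd hlt (not_lt.mpr (Nat.div_le_div_right (by omega)))
    have hb : b.val / 2 < n / 2 := by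
      by_contra hge
      rw [h] at hlt
      exact absurd hlt (not_lt.mpr (Nat.div_le_div_right (by omega)))
    obtain ⟨t, ht, htab⟩ := ih (n / 2) (a := ⟨_, ha⟩) (b := ⟨_, hb⟩) h hlt
    have hv : (lift n t a).val = 2 * (b.val / 2) + a.val % 2 := by
      rw [lift_apply, liftFun_val (by omega), htab]
    by_cases hp : a.val % 2 = b.val % 2
    · exact ⟨lift n t, lift_mem_tree ht, Fin.ext (by omega)⟩
    · refine ⟨pairSwap ⟨_, hb⟩ * lift n t,
        (tree n).mul_mem (pairSwap_mem_tree _) (lift_mem_tree ht), ?_⟩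
      rw [Perm.mul_apply]
      simp only [pairSwap, swap_apply_def, Fin.ext_iff]
      split_ifs <;> (try simp only at *) <;> omega

end CfsgLib.SylowAlt
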