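/-
Sylow 2-subgroups of `A_n` and `S_n` equal their normalisers (`n ≥ 6` for `A_n`), and pronormality of
subgroups containing the normaliser of a Sylow subgroup.
-/
import Mathlib.GroupTheory.Nilpotent
import Cfsg.Agent.SylowAlt.Tree

set_option autoImplicit false

namespace CfsgLib.SylowAlt

open Equiv

/-- The even part of the tree group, inside the alternating group. -/
def altTree (n : ℕ) : Subgroup (alternatingGroup (Fin n)) :=
  (tree n).subgroupOf (alternatingGroup (Fin n))

theorem mem_altTree {n : ℕ} {σ : alternatingGroup (Fin n)} :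
    σ ∈ altTree n ↔ (σ : Perm (Fin n)) ∈ tree n := Iff.rfl

theorem isPGroup_altTree (n : ℕ) : IsPGroup 2 (altTree n) :=
  (isPGroup_tree n).comap_subtype

theorem exists_sylow_eq_of_selfNormalizing {G : Type*} [Group G] [Finite G] {p : ℕ} [Fact p.Prime]
    {Q : Subgroup G} (hQ : IsPGroup p Q) (hN : ∀ x ∈ Subgroup.normalizer (Q : Set G), x ∈ Q) :
    ∃ P : Sylow p G, (P : Subgroup G) = Q := by
  obtain ⟨P, hP⟩ := hQ.exists_le_sylow
  refine ⟨P, ?_⟩
  by_contra hne
  have : Group.IsNilpotent (P : Subgroup G) := P.2.isNilpotent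
  have hlt : Q.subgroupOf P < ⊤ := lt_top_iff_ne_top.mpr fun h =>
    hne (le_antisymm (Subgroup.subgroupOf_eq_top.mp h) hP)
  obtain ⟨⟨x, hxP⟩, hx, hxQ⟩ := SetLike.exists_of_lt (Group.normalizerCondition_of_isNilpotent _ hlt)
  apply hxQ
  rw [Subgroup.mem_subgroupOf]
  apply hN
  rw [Subgroup.mem_normalizer_iff]
  intro y
  have key := Subgroup.mem_normalizer_iff.mp hx
  constructor
  · intro hy
    have := (key ⟨y, hP hy⟩).mp (by simpa [Subgroup.mem_subgroupOf] using hy)
    simpa [Subgroup.mem_subgroupOf] using this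
  · intro hy
    have hyP : y ∈ (P : Subgroup G) := by
      have h2 := (P : Subgroup G).mul_mem ((P : Subgroup G).mul_mem
        ((P : Subgroup G).inv_mem hxP) (hP hy)) hxP
      simpa [mul_assoc] using h2
    have := (key ⟨y, hyP⟩).mpr (by simpa [Subgroup.mem_subgroupOf] using hy)
    simpa [Subgroup.mem_subgroupOf] using this

theorem altTree_normalizer {n : ℕ} (hn : 6 ≤ n) {x : alternatingGroup (Fin n)}
    (hx : x ∈ Subgroup.normalizer (altTree n : Set (alternatingGroup (Fin n)))) : x ∈ altTree n := by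
  refine mem_tree_of_conj n (tree n ⊓ alternatingGroup (Fin n)) inf_le_left
    (fun σ h1 h2 => ⟨h1, Perm.mem_alternatingGroup.mpr h2⟩) (Or.inl hn) _ ?_
  intro w hw
  exact ⟨((Subgroup.mem_normalizer_iff.mp hx) ⟨w, hw.2⟩).mp hw.1,
    (alternatingGroup (Fin n)).mul_mem ((alternatingGroup (Fin n)).mul_mem x.2 hw.2)
      ((alternatingGroup (Fin n)).inv_mem x.2)⟩

theorem tree_normalizer {n : ℕ} {x : Perm (Fin n)}
    (hx : x ∈ Subgroup.normalizer (tree n : Set (Perm (Fin n)))) : x ∈ tree n :=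
  mem_tree_of_conj n (tree n) le_rfl (fun _ h _ => h) (Or.inr rfl) x
    (fun w hw => ((Subgroup.mem_normalizer_iff.mp hx) w).mp hw)

theorem exists_sylow_eq_altTree {n : ℕ} (hn : 6 ≤ n) :
    ∃ P : Sylow 2 (alternatingGroup (Fin n)), (P : Subgroup (alternatingGroup (Fin n))) = altTree n :=
  exists_sylow_eq_of_selfNormalizing (isPGroup_altTree n) fun _ h => altTree_normalizer hn h

theorem exists_sylow_eq_tree (n : ℕ) :
    ∃ P : Sylow 2 (Perm (Fin n)), (P : Subgroup (Perm (Fin n))) = tree n :=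
  exists_sylow_eq_of_selfNormalizing (isPGroup_tree n) fun _ h => tree_normalizer h

theorem sylow_selfNormalizing_of_one {G : Type*} [Group G] [Finite G] {p : ℕ} [Fact p.Prime]
    (P₀ : Sylow p G) (h : ∀ x ∈ Subgroup.normalizer ((P₀ : Subgroup G) : Set G), x ∈ (P₀ : Subgroup G))
    (P : Sylow p G) :
    Subgroup.normalizer ((P : Subgroup G) : Set G) = (P : Subgroup G) := by
  obtain ⟨g, rfl⟩ := MulAction.exists_smul_eq G P₀ P
  refine le_antisymm (fun x hx => ?_) Subgroup.le_normalizer
  rw [Sylow.coe_subgroup_smul] at hx ⊢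
  rw [Subgroup.mem_pointwise_smul_iff_inv_smul_mem]
  apply h
  rw [Subgroup.mem_normalizer_iff]
  intro y
  have key := Subgroup.mem_normalizer_iff.mp hx (g * y * g⁻¹)
  simp only [Subgroup.mem_pointwise_smul_iff_inv_smul_mem] at key
  simpa [MulAut.smul_def, mul_assoc] using key

theorem alternating_sylow_two_normalizer {n : ℕ} (hn : 6 ≤ n)
    (P : Sylow 2 (alternatingGroup (Fin n))) :
    Subgroup.normalizer ((P : Subgroup (alternatingGroup (Fin n))) : Set (alternatingGroup (Fin n))) =
      (P : Subgroup (alternatingGroup (Fin n))) := by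
  obtain ⟨P₀, h0⟩ := exists_sylow_eq_altTree hn
  refine sylow_selfNormalizing_of_one P₀ (fun x hx => ?_) P
  rw [h0] at hx ⊢
  exact altTree_normalizer hn hx

theorem perm_sylow_two_normalizer {n : ℕ} (P : Sylow 2 (Perm (Fin n))) :
    Subgroup.normalizer ((P : Subgroup (Perm (Fin n))) : Set (Perm (Fin n))) =
      (P : Subgroup (Perm (Fin n))) := by
  obtain ⟨P₀, h0⟩ := exists_sylow_eq_tree n
  refine sylow_selfNormalizing_of_one P₀ (fun x hx => ?_) P
  rw [h0] at hx ⊢
  exact tree_normalizer hx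

/-- A subgroup containing a Sylow subgroup and either containing its normaliser or equal to it is pronormal. -/
theorem pronormal_of_sylow {G : Type*} [Group G] [Finite G] {p : ℕ} [Fact p.Prime]
    (P : Sylow p G) {H : Subgroup G} (hP : (P : Subgroup G) ≤ H)
    (h : (P : Subgroup G) = H ∨ Subgroup.normalizer ((P : Subgroup G) : Set G) ≤ H) (g : G) :
    ∃ x ∈ H ⊔ H.map (MulAut.conj g).toMonoidHom,
      H.map (MulAut.conj g).toMonoidHom = H.map (MulAut.conj x).toMonoidHom := by
  set K := H ⊔ H.map (MulAut.conj g).toMonoidHom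
  have h1 : (P : Subgroup G) ≤ K := hP.trans le_sup_left
  have h2 : ((g • P : Sylow p G) : Subgroup G) ≤ K := by
    refine le_trans ?_ le_sup_right
    rw [Sylow.coe_subgroup_smul, Subgroup.pointwise_smul_def]
    exact Subgroup.map_mono hP
  obtain ⟨⟨x, hxK⟩, hx⟩ := MulAction.exists_smul_eq K (P.subtype h1) ((g • P).subtype h2)
  refine ⟨x, hxK, ?_⟩
  rw [Sylow.smul_subtype h1 ⟨x, hxK⟩] at hx
  have hx' : g • P = x • P := (Sylow.subtype_injective hx).symm
  have hn : x⁻¹ * g ∈ Subgroup.normalizer ((P : Subgroup G) : Set G) := by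
    exact Sylow.smul_eq_iff_mem_normalizer.mp (by rw [mul_smul, hx', inv_smul_smul])
  have key : H.map (MulAut.conj (x⁻¹ * g)).toMonoidHom = H := by
    rcases h with h | h
    · subst h
      have := Sylow.smul_eq_iff_mem_normalizer.mpr hn
      have h' := congrArg Sylow.toSubgroup this
      rwa [Sylow.coe_subgroup_smul, Subgroup.pointwise_smul_def] at h'
    · have hH := h hn
      apply le_antisymm
      · rintro _ ⟨y, hy, rfl⟩
        exact H.mul_mem (H.mul_mem hH hy) (H.inv_mem hH)
      · intro y hy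
        refine ⟨(x⁻¹ * g)⁻¹ * y * (x⁻¹ * g), H.mul_mem (H.mul_mem (H.inv_mem hH) hy) hH, ?_⟩
        simp [mul_assoc]
  conv_rhs => rw [← key]
  rw [Subgroup.map_map]
  congr 1
  ext y
  simp [mul_assoc]

end CfsgLib.SylowAlt
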