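/-
Overgroups of Sylow 2-subgroups of `A_n` and `S_n`: there is a unique maximal one iff `n = 2^k + 1`
(`n ≥ 5`, `n ≠ 6`).
-/
import Mathlib.GroupTheory.GroupAction.Jordan
import Mathlib.GroupTheory.SpecificGroups.Alternating.MaximalSubgroups
import Mathlib.Order.Atoms.Finite
import Cfsg.Agent.SylowAlt.Normalizer

set_option autoImplicit false

namespace CfsgLib.SylowAlt

open Equiv
open scoped Pointwise

section Combinatorics

variable {α : Type*} [DecidableEq α] [Fintype α]

omit [Fintype α] in
theorem commute_swap_swap {a b c d : α} (h1 : a ≠ c) (h2 : a ≠ d) (h3 : b ≠ c) (h4 : b ≠ d) :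
    Commute (swap a b) (swap c d) := by
  refine Equiv.ext fun x => ?_
  simp only [Perm.mul_apply, swap_apply_def]
  split_ifs <;> simp_all

omit [Fintype α] in
theorem swap_mul_swap_left {x d u v : α} (h1 : x ≠ u) (h2 : x ≠ v) :
    (swap x d * swap u v) x = d := by
  rw [Perm.mul_apply, swap_apply_of_ne_of_ne h1 h2, swap_apply_left]

omit [Fintype α] in
theorem swap_mul_swap_fix {x c d u v : α} (h1 : x ≠ c) (h2 : x ≠ d) (h3 : x ≠ u) (h4 : x ≠ v) :
    (swap c d * swap u v) x = x := by
  rw [Perm.mul_apply, swap_apply_of_ne_of_ne h3 h4, swap_apply_of_ne_of_ne h1 h2]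

/-- Two double transpositions meeting in exactly one point generate a 3-cycle. -/
theorem isThreeCycle_sq_of_share_one {a b c d e f g : α} (hab : a ≠ b) (hae : a ≠ e) (hbe : b ≠ e)
    (hac : a ≠ c) (had : a ≠ d) (hbc : b ≠ c) (hbd : b ≠ d) (hec : e ≠ c) (hed : e ≠ d)
    (haf : a ≠ f) (hag : a ≠ g) (hbf : b ≠ f) (hbg : b ≠ g) (hef : e ≠ f) (heg : e ≠ g)
    (hcf : c ≠ f) (hcg : c ≠ g) (hdf : d ≠ f) (hdg : d ≠ g) :
    ((swap a b * swap c d) * (swap a e * swap f g) *
      ((swap a b * swap c d) * (swap a e * swap f g))).IsThreeCycle := by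
  have h1 : Commute (swap c d) (swap a e) := commute_swap_swap hac.symm hec.symm had.symm hed.symm
  have h2 : Commute (swap c d) (swap f g) := commute_swap_swap hcf hcg hdf hdg
  have hX : swap a b * swap c d * (swap a e * swap f g) =
      (swap a b * swap a e) * (swap c d * swap f g) := by
    rw [mul_assoc, ← mul_assoc (swap c d), h1.eq, mul_assoc, ← mul_assoc]
  have h3 : Commute (swap a b * swap a e) (swap c d * swap f g) :=
    ((commute_swap_swap hac had hbc hbd).mul_left (commute_swap_swap hac had hec hed)).mul_right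
      ((commute_swap_swap haf hag hbf hbg).mul_left (commute_swap_swap haf hag hef heg))
  have h4 : swap c d * swap f g * (swap c d * swap f g) = 1 := by
    rw [mul_assoc, ← mul_assoc (swap f g), ← h2.eq, mul_assoc, swap_mul_self, mul_one, swap_mul_self]
  have h5 : ∀ X Y : Perm α, Commute X Y → Y * Y = 1 → X * Y * (X * Y) = X * X := fun X Y h hY => by
    rw [mul_assoc, ← mul_assoc Y, ← h.eq, mul_assoc X Y, hY, mul_one]
  rw [hX, h5 _ _ h3 h4]
  exact (Perm.isThreeCycle_swap_mul_swap_same hab hae hbe).isThreeCycle_sq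

end Combinatorics

variable {n : ℕ}

theorem pairSwap_eq {j : Fin (n / 2)} {u v : Fin n} (hu : u.val / 2 = j.val) (hv : v.val / 2 = j.val)
    (huv : u ≠ v) : pairSwap j = swap u v := by
  have h : u.val ≠ v.val := fun e => huv (Fin.ext e)
  ext x
  simp only [pairSwap, swap_apply_def, Fin.ext_iff]
  split_ifs <;> (try simp only at *) <;> omega

theorem conj_pairSwap (g : Perm (Fin n)) (j : Fin (n / 2)) :
    g * pairSwap j * g⁻¹ =
      swap (g ⟨2 * j.val, by omega⟩) (g ⟨2 * j.val + 1, by omega⟩) := by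
  rw [pairSwap, swap_apply_apply]

theorem lift_swap_mem (b c : Fin (n / 2)) (i : ℕ)
    (h : swap b c ∈ levelStab (n / 2) i) : lift n (swap b c) ∈ levelStab n (i + 1) := by
  intro x y
  have hval : ∀ x : Fin n, (lift n (swap b c) x).val / 2 = extNat (swap b c) (x.val / 2) := by
    intro x
    rw [lift_apply]
    by_cases hx : x.val < 2 * (n / 2)
    · rw [liftFun_val hx, extNat, dif_pos (half_lt x hx)]; omega
    · rw [liftFun_of_not hx, extNat, dif_neg (by omega)]
  rw [pow_succ', ← Nat.div_div_eq_div_mul, ← Nat.div_div_eq_div_mul, hval, hval,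
    ← Nat.div_div_eq_div_mul, ← Nat.div_div_eq_div_mul,
    extNat_level h (Nat.div_le_div_right x.isLt.le) (Nat.div_le_div_right y.isLt.le)]

theorem levelStab_zero (σ : Perm (Fin n)) : σ ∈ levelStab n 0 := fun a b => by simp [Fin.val_inj]

theorem isPreprimitive_of_blocks {W : Subgroup (Perm (Fin n))} [MulAction.IsPretransitive W (Fin n)]
    (a : Fin n) (h : ∀ B : Set (Fin n), a ∈ B → MulAction.IsBlock W B →
      (∃ c ∈ B, c ≠ a) → B = Set.univ) : MulAction.IsPreprimitive W (Fin n) := by
  refine MulAction.IsPreprimitive.of_isTrivialBlock_base a fun {B} ha hB => ?_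
  by_cases hc : ∃ c ∈ B, c ≠ a
  · exact Or.inr (h B ha hB hc)
  · exact Or.inl fun x hx y hy => by
      simp only [not_exists, not_and, not_not] at hc
      rw [hc x hx, hc y hy]

theorem block_stable {W : Subgroup (Perm (Fin n))} {B : Set (Fin n)} (hB : MulAction.IsBlock W B)
    {a c : Fin n} (ha : a ∈ B) (hc : c ∈ B) {w : Perm (Fin n)} (hw : w ∈ W) (hwa : w a = a) :
    w c ∈ B := by
  have h : (⟨w, hw⟩ : W) • B = B := by
    apply (MulAction.isBlock_iff_smul_eq_of_nonempty.mp hB)
    exact ⟨a, ⟨a, ha, hwa⟩, ha⟩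
  rw [← h]
  exact ⟨c, hc, rfl⟩

theorem five_three_cycle : ∀ g : Perm (Fin 5), g 4 ≠ 4 →
    ∃ x y : Perm (Fin 5), (x = swap 0 1 * swap 2 3 ∨ x = swap 0 2 * swap 1 3 ∨ x = swap 0 3 * swap 1 2) ∧
      (y = swap 0 1 * swap 2 3 ∨ y = swap 0 2 * swap 1 3 ∨ y = swap 0 3 * swap 1 2) ∧
      (x * (g * y * g⁻¹)).support.card = 3 := by
  decide +kernel

theorem five_elems :
    swap (0 : Fin 5) 1 * swap 2 3 =
        pairSwap (⟨0, by norm_num⟩ : Fin (5 / 2)) * pairSwap ⟨1, by norm_num⟩ ∧
      swap (0 : Fin 5) 2 * swap 1 3 = lift 5 (swap ⟨0, by norm_num⟩ ⟨1, by norm_num⟩) ∧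
      swap (0 : Fin 5) 3 * swap 1 2 = lift 5 (swap ⟨0, by norm_num⟩ ⟨1, by norm_num⟩) *
          (pairSwap ⟨0, by norm_num⟩ * pairSwap ⟨1, by norm_num⟩) := by
  decide +kernel

/-- For `n = 2^k + 1`, an overgroup of the tree group moving the last point contains `A_n`. -/
theorem alternating_le_of_moves_last {k : ℕ} (hk : 2 ≤ k) (hn : n = 2 ^ k + 1)
    {W : Subgroup (Perm (Fin n))} (hT : ∀ σ ∈ tree n, Perm.sign σ = 1 → σ ∈ W)
    {g : Perm (Fin n)} (hg : g ∈ W) {a : Fin n} (haval : a.val = 2 ^ k) (hga : g a ≠ a) :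
    alternatingGroup (Fin n) ≤ W := by
  have hpow : 4 ≤ 2 ^ k := by simpa using Nat.pow_le_pow_right (by norm_num : 0 < 2) hk
  have heven : 2 ∣ 2 ^ k := dvd_pow_self 2 (by omega)
  have hh : n / 2 * 2 = 2 ^ k := by omega
  have hne : ∀ c : Fin n, c ≠ a → c.val < 2 ^ k := fun c hc => by
    have : c.val ≠ a.val := fun e => hc (Fin.ext e)
    omega
  have htrans : ∀ c d : Fin n, c ≠ a → d ≠ a → ∃ w ∈ W, w a = a ∧ w c = d := by
    intro c d hc hd
    have h1 := hne c hc
    have h2 := hne d hd
    have hdiv : n / 2 ^ k = 1 := by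
      rw [hn]; exact Nat.div_eq_of_lt_le (by omega) (by omega)
    obtain ⟨σ, hσ, hσcd⟩ := exists_tree_apply n k (a := c) (b := d)
      (by rw [Nat.div_eq_of_lt h1, Nat.div_eq_of_lt h2]) (by rw [Nat.div_eq_of_lt h1, hdiv]; norm_num)
    have fix_a : ∀ τ ∈ tree n, τ a = a := by
      intro τ hτ
      have := last_class (mem_tree.mp hτ 1) a
      apply Fin.ext
      simp only [pow_one] at this
      omega
    rcases Int.units_eq_one_or (Perm.sign σ) with hs | hs
    · exact ⟨σ, hT σ hσ hs, fix_a σ hσ, hσcd⟩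
    · obtain ⟨j, hj⟩ : ∃ j : Fin (n / 2), j.val ≠ d.val / 2 := by
        by_cases hd0 : d.val / 2 = 0
        · exact ⟨⟨1, by omega⟩, by simp only; omega⟩
        · exact ⟨⟨0, by omega⟩, by simp only; omega⟩
      have hm := (tree n).mul_mem (pairSwap_mem_tree j) hσ
      refine ⟨pairSwap j * σ, hT _ hm ?_, fix_a _ hm, ?_⟩
      · rw [map_mul, sign_pairSwap, hs]; rfl
      · rw [Perm.mul_apply, hσcd, pairSwap_apply_of_ne (Ne.symm hj)]
  have : MulAction.IsPretransitive W (Fin n) := by
    apply (MulAction.isPretransitive_iff_base a).mpr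
    intro c
    by_cases hc : c = a
    · exact ⟨1, by rw [one_smul, hc]⟩
    · obtain ⟨w, hw, -, hwc⟩ := htrans (g a) c hga hc
      exact ⟨⟨w * g, W.mul_mem hw hg⟩, by simpa [Subgroup.smul_def] using hwc⟩
  have hprim : MulAction.IsPreprimitive W (Fin n) := by
    refine isPreprimitive_of_blocks a fun B ha hB ⟨c, hc, hca⟩ => ?_
    apply Set.eq_univ_of_forall
    intro d
    by_cases hd : d = a
    · exact hd ▸ ha
    · obtain ⟨w, hw, hwa, hwc⟩ := htrans c d hca hd
      exact hwc ▸ block_stable hB ha hc hw hwa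
  suffices ∃ s ∈ W, s.IsThreeCycle by
    obtain ⟨s, hs, hs3⟩ := this
    exact Perm.alternatingGroup_le_of_isPreprimitive_of_isThreeCycle_mem hprim hs3 hs
  rcases Nat.lt_or_ge k 3 with hk3 | hk3
  · obtain rfl : k = 2 := by omega
    obtain rfl : n = 5 := by omega
    have ha4 : a = 4 := Fin.ext (by simpa using haval)
    rw [ha4] at hga
    obtain ⟨x, y, hx, hy, h3⟩ := five_three_cycle g hga
    have hmem : ∀ z : Perm (Fin 5), (z = swap 0 1 * swap 2 3 ∨ z = swap 0 2 * swap 1 3 ∨
        z = swap 0 3 * swap 1 2) → z ∈ W := by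
      obtain ⟨hA, hB, hC⟩ := five_elems
      have h01 : (swap (⟨0, by omega⟩ : Fin (5 / 2)) ⟨1, by omega⟩) = pairSwap (⟨0, by omega⟩ : Fin (5 / 2 / 2)) := rfl
      have mA : swap (0 : Fin 5) 1 * swap 2 3 ∈ W := by
        rw [hA]
        exact hT _ ((tree 5).mul_mem (pairSwap_mem_tree _) (pairSwap_mem_tree _))
          (by rw [map_mul, sign_pairSwap, sign_pairSwap]; rfl)
      have mB : swap (0 : Fin 5) 2 * swap 1 3 ∈ W := by
        rw [hB]
        exact hT _ (lift_mem_tree (h01 ▸ pairSwap_mem_tree _)) (sign_lift _)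
      rintro z (rfl | rfl | rfl)
      · exact mA
      · exact mB
      · rw [hC, ← hA, ← hB]; exact W.mul_mem mB mA
    exact ⟨_, W.mul_mem (hmem x hx) (W.mul_mem (W.mul_mem hg (hmem y hy)) (W.inv_mem hg)),
      card_support_eq_three_iff.mp h3⟩
  · have h8 : 8 ≤ 2 ^ k := by simpa using Nat.pow_le_pow_right (by norm_num : 0 < 2) hk3
    have hpp : ∀ i m : Fin (n / 2), pairSwap i * pairSwap m ∈ W := fun i m =>
      hT _ ((tree n).mul_mem (pairSwap_mem_tree _) (pairSwap_mem_tree _))
        (by rw [map_mul, sign_pairSwap, sign_pairSwap]; rfl)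
    set p := g⁻¹ a with hp
    have hgp : g p = a := by simp [hp]
    have hpa : p ≠ a := fun e => hga (by rw [← e]; exact hgp.trans e.symm)
    have hp2 := hne p hpa
    let j : Fin (n / 2) := ⟨p.val / 2, by omega⟩
    obtain ⟨p', hp', hpp'⟩ : ∃ p' : Fin n, p'.val / 2 = j.val ∧ p' ≠ p := by
      by_cases h : p.val % 2 = 0
      · exact ⟨⟨p.val + 1, by omega⟩, by simp only [j]; omega, fun e => by
          have := congrArg Fin.val e; simp only at this; omega⟩
      · exact ⟨⟨p.val - 1, by omega⟩, by simp only [j]; omega, fun e => by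
          have := congrArg Fin.val e; simp only at this; omega⟩
    set f0 := g p' with hf0
    have hf0a : f0 ≠ a := fun e => hpp' (g.injective (e.trans hgp.symm))
    have hf02 := hne f0 hf0a
    let i : Fin (n / 2) := ⟨f0.val / 2, by omega⟩
    obtain ⟨b, hb, hbf⟩ : ∃ b : Fin n, b.val / 2 = i.val ∧ b ≠ f0 := by
      by_cases h : f0.val % 2 = 0
      · exact ⟨⟨f0.val + 1, by omega⟩, by simp only [i]; omega, fun e => by
          have := congrArg Fin.val e; simp only at this; omega⟩
      · exact ⟨⟨f0.val - 1, by omega⟩, by simp only [i]; omega, fun e => by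
          have := congrArg Fin.val e; simp only at this; omega⟩
    have hba : b ≠ a := fun e => by
      have := congrArg Fin.val e
      have := i.isLt
      omega
    obtain ⟨l, hlj, hlb⟩ : ∃ l : Fin (n / 2), l.val ≠ j.val ∧ l.val ≠ (g⁻¹ b).val / 2 := by
      by_contra hc
      simp only [not_exists, not_and, not_not] at hc
      have h0 := hc ⟨0, by omega⟩
      have h1 := hc ⟨1, by omega⟩
      have h2 := hc ⟨2, by omega⟩
      simp only at h0 h1 h2
      omega
    set u : Fin n := ⟨2 * l.val, by omega⟩ with hu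
    set v : Fin n := ⟨2 * l.val + 1, by omega⟩ with hv
    obtain ⟨m, hmi, hmu, hmv⟩ : ∃ m : Fin (n / 2), m.val ≠ i.val ∧ m.val ≠ (g u).val / 2 ∧
        m.val ≠ (g v).val / 2 := by
      by_contra hc
      simp only [not_exists, not_and, not_not] at hc
      have h0 := hc ⟨0, by omega⟩
      have h1 := hc ⟨1, by omega⟩
      have h2 := hc ⟨2, by omega⟩
      have h3 := hc ⟨3, by omega⟩
      simp only at h0 h1 h2 h3
      omega
    set c : Fin n := ⟨2 * m.val, by omega⟩ with hc
    set d : Fin n := ⟨2 * m.val + 1, by omega⟩ with hd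
    have hx : swap f0 b * swap c d ∈ W := by
      have h1 : pairSwap i = swap f0 b := pairSwap_eq rfl hb (Ne.symm hbf)
      have h2 : pairSwap m = swap c d := rfl
      rw [← h1, ← h2]; exact hpp i m
    have hy : swap f0 a * swap (g u) (g v) ∈ W := by
      have h1 : pairSwap j = swap p' p := pairSwap_eq hp' rfl hpp'
      have h2 : g * (pairSwap j * pairSwap l) * g⁻¹ = swap f0 a * swap (g u) (g v) := by
        rw [hf0, ← hgp, swap_apply_apply g p' p, swap_apply_apply g u v, h1]
        simp only [pairSwap, hu, hv]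
        group
      rw [← h2]
      exact W.mul_mem (W.mul_mem hg (hpp j l)) (W.inv_mem hg)
    refine ⟨_, W.mul_mem (W.mul_mem hx hy) (W.mul_mem hx hy), ?_⟩
    have dv : ∀ {x y : Fin n}, x.val / 2 ≠ y.val / 2 → x ≠ y := fun h e => h (e ▸ rfl)
    have dn : ∀ {x : Fin n}, x.val / 2 ≠ a.val / 2 → x ≠ a := fun h e => h (e ▸ rfl)
    have gne : ∀ {x y : Fin n}, x.val / 2 ≠ y.val / 2 → g x ≠ g y :=
      fun h e => dv h (g.injective e)
    have hcv : c.val / 2 = m.val := by simp only [hc]; omega
    have hdv : d.val / 2 = m.val := by simp only [hd]; omega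
    have huv : u.val / 2 = l.val := by simp only [hu]; omega
    have hvv : v.val / 2 = l.val := by simp only [hv]; omega
    have hav : a.val / 2 = n / 2 := by omega
    have hfi : f0.val / 2 = i.val := rfl
    have := m.isLt
    apply isThreeCycle_sq_of_share_one
    · exact Ne.symm hbf
    · exact hf0a
    · exact hba
    · exact dv (by omega)
    · exact dv (by omega)
    · exact dv (by omega)
    · exact dv (by omega)
    · exact Ne.symm (dn (by omega))
    · exact Ne.symm (dn (by omega))
    · exact gne (by omega)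
    · exact gne (by omega)
    · intro e
      apply hlb
      rw [e, Perm.coe_inv, symm_apply_apply, huv]
    · intro e
      apply hlb
      rw [e, Perm.coe_inv, symm_apply_apply, hvv]
    · rw [← hgp]
      exact gne (by simp only [j] at hlj; omega)
    · rw [← hgp]
      exact gne (by simp only [j] at hlj; omega)
    · exact dv (by omega)
    · exact dv (by omega)
    · exact dv (by omega)
    · exact dv (by omega)

/-- The two overgroups when `n` is not `2^k + 1`. -/
theorem exists_two_overgroups (h7 : 7 ≤ n) (hns : ∀ k : ℕ, n ≠ 2 ^ k + 1) :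
    ∃ U V : Subgroup (Perm (Fin n)), tree n ≤ U ∧ tree n ≤ V ∧
      ¬ alternatingGroup (Fin n) ≤ U ∧ ¬ alternatingGroup (Fin n) ≤ V ∧
      ∀ W : Subgroup (Perm (Fin n)), U ⊓ alternatingGroup (Fin n) ≤ W →
        V ⊓ alternatingGroup (Fin n) ≤ W → alternatingGroup (Fin n) ≤ W := by
  set k := Nat.log 2 n with hk
  have hk1 : 2 ^ k ≤ n := Nat.pow_log_le_self 2 (by omega)
  have hk2 : n < 2 ^ (k + 1) := Nat.lt_pow_succ_log_self (by norm_num) n
  rw [pow_succ] at hk2
  have hk2' : 2 ≤ k := by
    by_contra h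
    have : 2 ^ k ≤ 2 ^ 1 := Nat.pow_le_pow_right (by norm_num) (by omega)
    omega
  have hpow : 4 ≤ 2 ^ k := by simpa using Nat.pow_le_pow_right (by norm_num : 0 < 2) hk2'
  have heven : 2 ∣ 2 ^ k := dvd_pow_self 2 (by omega)
  have cyc3 : (swap (⟨0, by omega⟩ : Fin n) ⟨1, by omega⟩ * swap ⟨1, by omega⟩ ⟨2, by omega⟩) ∈
      alternatingGroup (Fin n) := by
    rw [Perm.mem_alternatingGroup, map_mul, Perm.sign_swap, Perm.sign_swap] <;> simp [Fin.ext_iff]
  have lev1 : ¬ alternatingGroup (Fin n) ≤ levelStab n 1 := fun h => by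
    have := (h cyc3 ⟨0, by omega⟩ ⟨1, by omega⟩).mpr (by simp)
    simp [swap_apply_def, Fin.ext_iff] at this
  rcases hk1.eq_or_lt with hp | hp
  · -- `n = 2^k`
    obtain ⟨r, hr⟩ : ∃ r, k = r + 1 := ⟨k - 1, by omega⟩
    have h2r : 2 * 2 ^ r = n := by rw [← hp, hr, pow_succ']
    have hr4 : 4 ≤ 2 ^ r := by
      have : 2 ≤ r := by
        by_contra h
        have : 2 ^ r ≤ 2 ^ 1 := Nat.pow_le_pow_right (by norm_num) (by omega)
        omega
      simpa using Nat.pow_le_pow_right (by norm_num : 0 < 2) this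
    have hr2 : 2 ∣ 2 ^ r := by
      refine dvd_pow_self 2 ?_
      intro h
      rw [h] at hr4
      norm_num at hr4
    refine ⟨levelStab n 1, levelStab n r, tree_le_levelStab 1, tree_le_levelStab r, lev1, ?_, ?_⟩
    · intro h
      have hc : (swap (⟨0, by omega⟩ : Fin n) ⟨2 ^ r, by omega⟩ * swap ⟨2, by omega⟩ ⟨3, by omega⟩) ∈
          alternatingGroup (Fin n) := by
        rw [Perm.mem_alternatingGroup, map_mul, Perm.sign_swap, Perm.sign_swap] <;>
          simp [Fin.ext_iff] <;> omega
      have := (h hc ⟨0, by omega⟩ ⟨1, by omega⟩).mpr (by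
        simp only; rw [Nat.zero_div, Nat.div_eq_of_lt (by omega)])
      rw [Perm.mul_apply, Perm.mul_apply,
        swap_apply_of_ne_of_ne (x := (⟨0, by omega⟩ : Fin n)) (by simp [Fin.ext_iff]) (by simp [Fin.ext_iff]),
        swap_apply_of_ne_of_ne (x := (⟨1, by omega⟩ : Fin n)) (by simp [Fin.ext_iff]) (by simp [Fin.ext_iff]),
        swap_apply_left,
        swap_apply_of_ne_of_ne (x := (⟨1, by omega⟩ : Fin n)) (by simp [Fin.ext_iff]) (by simp [Fin.ext_iff]; omega)] at this
      simp only at this
      rw [Nat.div_self (Nat.two_pow_pos r), Nat.div_eq_of_lt (show 1 < 2 ^ r by omega)] at this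
      exact absurd this one_ne_zero
    intro W hU hV
    -- elements of `W`
    have hsw : ∀ c d u v : Fin n, c.val / 2 ^ r = d.val / 2 ^ r → u.val / 2 ^ r = v.val / 2 ^ r →
        c ≠ d → u ≠ v → swap c d * swap u v ∈ W := by
      intro c d u v h1 h2 h3 h4
      refine hV ⟨?_, ?_⟩
      · have key : ∀ c d : Fin n, c.val / 2 ^ r = d.val / 2 ^ r → ∀ x : Fin n,
            (swap c d x).val / 2 ^ r = x.val / 2 ^ r := by
          intro c d h x
          rcases eq_or_ne x c with rfl | hc
          · rw [swap_apply_left, h]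
          rcases eq_or_ne x d with rfl | hd
          · rw [swap_apply_right, h]
          · rw [swap_apply_of_ne_of_ne hc hd]
        intro x y
        simp only [Perm.mul_apply, key c d h1, key u v h2]
      · refine Perm.mem_alternatingGroup.mpr ?_
        rw [map_mul, Perm.sign_swap h3, Perm.sign_swap h4]
        rfl
    set g := lift n (swap (⟨0, by omega⟩ : Fin (n / 2)) ⟨n / 2 - 1, by omega⟩) with hgdef
    have hg : g ∈ W := hU ⟨lift_swap_mem _ _ 0 (levelStab_zero _),
      Perm.mem_alternatingGroup.mpr (sign_lift _)⟩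
    set x0 : Fin n := ⟨0, by omega⟩ with hx0
    have hg0 : (g x0).val = n - 2 := by
      rw [hgdef, lift_swap, show x0 = (⟨2 * 0, by omega⟩ : Fin n) from rfl, swap_mul_swap_left]
      · simp only; omega
      · simp [Fin.ext_iff]
      · simp [Fin.ext_iff]
    have hg2 : g ⟨2, by omega⟩ = ⟨2, by omega⟩ := by
      rw [hgdef, lift_swap, swap_mul_swap_fix] <;> simp [Fin.ext_iff] <;> omega
    have hside : ∀ x : Fin n, x.val / 2 ^ r = if x.val < 2 ^ r then 0 else 1 := by
      intro x
      split_ifs with h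
      · exact Nat.div_eq_of_lt h
      · exact Nat.div_eq_of_lt_le (by omega) (by omega)
    have hmove : ∀ c d : Fin n, c.val / 2 ^ r = d.val / 2 ^ r → c ≠ x0 → d ≠ x0 →
        ∃ w ∈ W, w x0 = x0 ∧ w c = d := by
      intro c d h1 hc hd
      rcases eq_or_ne c d with rfl | hcd
      · exact ⟨1, W.one_mem, rfl, rfl⟩
      obtain ⟨u, v, h2, huv, huc, hud, hvc, hvd, hu0, hv0⟩ : ∃ u v : Fin n,
          u.val / 2 ^ r = v.val / 2 ^ r ∧ u ≠ v ∧ u ≠ c ∧ u ≠ d ∧ v ≠ c ∧ v ≠ d ∧ u ≠ x0 ∧ v ≠ x0 := by
        by_cases h : c.val < 2 ^ r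
        · refine ⟨⟨2 ^ r, by omega⟩, ⟨2 ^ r + 1, by omega⟩, ?_⟩
          have hd' : d.val < 2 ^ r := by
            by_contra h'
            rw [hside c, hside d, if_pos h, if_neg h'] at h1
            omega
          refine ⟨by rw [hside, hside]; simp, ?_, ?_, ?_, ?_, ?_, ?_, ?_⟩ <;>
            (intro e; have := congrArg Fin.val e; simp only [hx0] at this; omega)
        · refine ⟨⟨1, by omega⟩, ⟨2, by omega⟩, ?_⟩
          have hd' : ¬ d.val < 2 ^ r := by
            intro h'
            rw [hside c, hside d, if_neg h, if_pos h'] at h1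
            omega
          refine ⟨by rw [hside, hside, if_pos (by simp only; omega), if_pos (by simp only; omega)],
            ?_, ?_, ?_, ?_, ?_, ?_, ?_⟩ <;>
            (intro e; have := congrArg Fin.val e; simp only [hx0] at this; omega)
      refine ⟨_, hsw c d u v h1 h2 hcd huv, ?_, ?_⟩
      · rw [Perm.mul_apply, swap_apply_of_ne_of_ne hu0.symm hv0.symm,
          swap_apply_of_ne_of_ne hc.symm hd.symm]
      · rw [Perm.mul_apply, swap_apply_of_ne_of_ne huc.symm hvc.symm, swap_apply_left]
    have hg0ne : g x0 ≠ x0 := fun e => by rw [e] at hg0; simp only [hx0] at hg0; omega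
    have hup : ∀ x : Fin n, x.val = n - 2 → x.val / 2 ^ r = 1 := fun x hx => by
      rw [hside, if_neg (by omega)]
    have : MulAction.IsPretransitive W (Fin n) := by
      apply (MulAction.isPretransitive_iff_base x0).mpr
      intro c
      rcases eq_or_ne c x0 with rfl | hc
      · exact ⟨1, one_smul _ _⟩
      by_cases h : c.val < 2 ^ r
      · obtain ⟨u, v, h2, huv, hu0, hv0, huc, hvc⟩ : ∃ u v : Fin n,
            u.val / 2 ^ r = v.val / 2 ^ r ∧ u ≠ v ∧ u ≠ x0 ∧ v ≠ x0 ∧ u ≠ c ∧ v ≠ c :=
          ⟨⟨2 ^ r, by omega⟩, ⟨2 ^ r + 1, by omega⟩, by rw [hside, hside]; simp,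
            by simp [Fin.ext_iff], by simp [hx0, Fin.ext_iff], by simp [hx0, Fin.ext_iff],
            by simp [Fin.ext_iff]; omega, by simp [Fin.ext_iff]; omega⟩
        refine ⟨⟨_, hsw x0 c u v ?_ h2 hc.symm huv⟩, ?_⟩
        · rw [hside, hside, if_pos (by simp only [hx0]; omega), if_pos h]
        · simp only [Subgroup.smul_def, Perm.smul_def, Perm.mul_apply,
            swap_apply_of_ne_of_ne hu0.symm hv0.symm, swap_apply_left]
      · obtain ⟨w, hw, -, hwc⟩ := hmove (g x0) c
          (by rw [hup _ hg0, hside c, if_neg h]) hg0ne hc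
        exact ⟨⟨w * g, W.mul_mem hw hg⟩, by simpa [Subgroup.smul_def] using hwc⟩
    have hprim : MulAction.IsPreprimitive W (Fin n) := by
      refine isPreprimitive_of_blocks x0 fun B h0 hB ⟨c, hc, hcne⟩ => ?_
      have hfull : ∀ d : Fin n, d ≠ x0 → d.val / 2 ^ r = c.val / 2 ^ r → d ∈ B := by
        intro d hd h
        obtain ⟨w, hw, hw0, hwc⟩ := hmove c d h.symm hcne hd
        exact hwc ▸ block_stable hB h0 hc hw hw0
      have hcard : ∀ S : Finset (Fin n), (S : Set (Fin n)) ⊆ B → n < S.card * 2 → B = Set.univ := by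
        intro S hS hlt
        apply hB.eq_univ_of_card_lt
        rw [Nat.card_fin]
        have := Set.ncard_le_ncard hS
        rw [Set.ncard_coe_finset] at this
        omega
      have hlow : B = Set.univ ∨ ∀ d : Fin n, d.val < 2 ^ r → d ∈ B := by
        by_cases hcl : c.val < 2 ^ r
        · right
          intro d hd
          rcases eq_or_ne d x0 with rfl | h
          · exact h0
          · exact hfull d h (by rw [hside, hside, if_pos hd, if_pos hcl])
        · left
          apply hcard (insert x0 (Finset.univ.filter fun d : Fin n => 2 ^ r ≤ d.val))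
          · intro d hd
            simp at hd
            rcases hd with rfl | hd
            · exact h0
            · refine hfull d ?_ (by rw [hside, hside, if_neg (by omega), if_neg hcl])
              intro e
              rw [e] at hd
              simp [hx0] at hd
          · have hcard' : (Finset.univ.filter fun d : Fin n => 2 ^ r ≤ d.val).card = n - 2 ^ r := by
              have h := Finset.card_filter_add_card_filter_not (s := (Finset.univ : Finset (Fin n)))
                (fun d : Fin n => d.val < 2 ^ r)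
              rw [Fin.card_filter_val_lt, Finset.card_univ, Fintype.card_fin] at h
              simp only [not_lt] at h
              omega
            rw [Finset.card_insert_of_notMem (by simp [hx0]), hcard']
            omega
      rcases hlow with h | h
      · exact h
      have hs : (⟨g, hg⟩ : W) • B = B := by
        apply MulAction.isBlock_iff_smul_eq_of_nonempty.mp hB
        exact ⟨⟨2, by omega⟩, ⟨⟨2, by omega⟩, h _ (by simp only; omega), hg2⟩,
          h _ (by simp only; omega)⟩
      have hgB : g x0 ∈ B := hs ▸ ⟨x0, h0, rfl⟩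
      apply hcard (insert (g x0) (Finset.univ.filter fun d : Fin n => d.val < 2 ^ r))
      · intro d hd
        simp at hd
        rcases hd with rfl | hd
        · exact hgB
        · exact h d hd
      · rw [Finset.card_insert_of_notMem (by simp; omega), Fin.card_filter_val_lt]
        omega
    have h3mem : swap (⟨0, by omega⟩ : Fin n) ⟨1, by omega⟩ * swap ⟨1, by omega⟩ ⟨2, by omega⟩ ∈ W := by
      apply hsw <;> first
        | (simp [Fin.ext_iff]; done)
        | (rw [hside, hside, if_pos (by simp only [hx0]; omega), if_pos (by simp only [hx0]; omega)])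
    refine Perm.alternatingGroup_le_of_isPreprimitive_of_isThreeCycle_mem hprim ?_ h3mem
    rw [swap_comm]
    apply Perm.isThreeCycle_swap_mul_swap_same <;> simp [Fin.ext_iff]
  · -- not a power of two
    have hp2 : 2 ^ k + 2 ≤ n := by have := hns k; omega
    set Δ : Set (Fin n) := {x | x.val < 2 ^ k} with hΔ
    set U := MulAction.stabilizer (Perm (Fin n)) Δ
    have hdiv : ∀ x : Fin n, x.val < 2 ^ k ↔ ¬ x.val / 2 ^ k = n / 2 ^ k := by
      intro x
      have h1 : n / 2 ^ k = 1 := Nat.div_eq_of_lt_le (by omega) (by omega)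
      rw [h1]
      constructor
      · intro h; rw [Nat.div_eq_of_lt h]; norm_num
      · intro h
        by_contra hc
        exact h (Nat.div_eq_of_lt_le (by omega) (by omega))
    have hTU : tree n ≤ U := by
      intro σ hσ
      rw [MulAction.mem_stabilizer_set]
      intro x
      show (σ x).val < 2 ^ k ↔ x.val < 2 ^ k
      rw [hdiv, hdiv, last_class (mem_tree.mp hσ k)]
    have hU : ¬ alternatingGroup (Fin n) ≤ U := by
      intro h
      have hc : (swap (⟨0, by omega⟩ : Fin n) ⟨2 ^ k, by omega⟩ * swap ⟨1, by omega⟩ ⟨2, by omega⟩) ∈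
          alternatingGroup (Fin n) := by
        rw [Perm.mem_alternatingGroup, map_mul, Perm.sign_swap, Perm.sign_swap] <;> simp [Fin.ext_iff] <;> omega
      have := (MulAction.mem_stabilizer_set.mp (h hc) ⟨0, by omega⟩).mpr
        (show (0 : ℕ) < 2 ^ k by omega)
      rw [Perm.smul_def, swap_mul_swap_left (by simp [Fin.ext_iff]) (by simp [Fin.ext_iff])] at this
      exact lt_irrefl (2 ^ k) this
    have hcoatom : IsCoatom (MulAction.stabilizer (alternatingGroup (Fin n)) Δ) := by
      apply alternatingGroup.isCoatom_stabilizer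
      · exact ⟨⟨0, by omega⟩, show (0 : ℕ) < 2 ^ k by omega⟩
      · exact ⟨⟨2 ^ k, by omega⟩, show ¬ (2 ^ k : ℕ) < 2 ^ k from lt_irrefl _⟩
      · have : Δ.ncard = 2 ^ k := by
          rw [show Δ = ((Finset.univ.filter fun d : Fin n => d.val < 2 ^ k) : Set (Fin n)) by
            ext; simp [hΔ], Set.ncard_coe_finset, Fin.card_filter_val_lt]
          omega
        rw [Nat.card_fin, this]
        omega
    have key : ∀ V : Subgroup (Perm (Fin n)),
        (∃ g ∈ V ⊓ alternatingGroup (Fin n), ∃ x : Fin n, x.val < 2 ^ k ∧ ¬ (g x).val < 2 ^ k) →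
        ∀ W : Subgroup (Perm (Fin n)), U ⊓ alternatingGroup (Fin n) ≤ W →
          V ⊓ alternatingGroup (Fin n) ≤ W → alternatingGroup (Fin n) ≤ W := by
      rintro V ⟨g, hg, x, hx, hgx⟩ W hUW hVW σ hσ
      have hlt : MulAction.stabilizer (alternatingGroup (Fin n)) Δ <
          W.subgroupOf (alternatingGroup (Fin n)) := by
        refine lt_of_le_of_ne (fun s hs => hUW ⟨hs, s.2⟩) fun e => ?_
        have : (⟨g, hg.2⟩ : alternatingGroup (Fin n)) ∈ MulAction.stabilizer (alternatingGroup (Fin n)) Δ := by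
          rw [e]; exact hVW hg
        exact hgx ((MulAction.mem_stabilizer_set.mp this x).mpr hx)
      exact Subgroup.subgroupOf_eq_top.mp (hcoatom.2 _ hlt) hσ
    rcases Nat.even_or_odd n with hev | hodd
    · refine ⟨U, levelStab n 1, hTU, tree_le_levelStab 1, hU, lev1, key _ ?_⟩
      have h2 : 2 * (n / 2) = n := Nat.two_mul_div_two_of_even hev
      refine ⟨lift n (swap (⟨0, by omega⟩ : Fin (n / 2)) ⟨n / 2 - 1, by omega⟩),
        ⟨lift_swap_mem _ _ 0 (levelStab_zero _), Perm.mem_alternatingGroup.mpr (sign_lift _)⟩,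
        ⟨0, by omega⟩, by simp only; omega, ?_⟩
      rw [lift_swap, show (⟨0, by omega⟩ : Fin n) = ⟨2 * 0, by omega⟩ from rfl, swap_mul_swap_left]
      · simp only; omega
      · simp [Fin.ext_iff]
      · simp [Fin.ext_iff]
    · obtain ⟨q, hq⟩ := hodd
      set a : Fin n := ⟨n - 1, by omega⟩ with ha
      have hTa : tree n ≤ MulAction.stabilizer (Perm (Fin n)) a := by
        intro σ hσ
        have := last_class (mem_tree.mp hσ 1) a
        rw [MulAction.mem_stabilizer_iff]
        apply Fin.ext
        simp only [pow_one, ha] at this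
        simp only [Perm.smul_def, ha]
        omega
      refine ⟨U, _, hTU, hTa, hU, ?_, key _ ?_⟩
      · intro h
        have hc : (swap (⟨0, by omega⟩ : Fin n) a * swap ⟨1, by omega⟩ ⟨2, by omega⟩) ∈
            alternatingGroup (Fin n) := by
          rw [Perm.mem_alternatingGroup, map_mul, Perm.sign_swap, Perm.sign_swap] <;>
            simp [Fin.ext_iff, ha] <;> omega
        have := MulAction.mem_stabilizer_iff.mp (h hc)
        rw [Perm.smul_def, Perm.mul_apply,
          swap_apply_of_ne_of_ne (x := a) (by simp [ha, Fin.ext_iff]; omega) (by simp [ha, Fin.ext_iff]; omega),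
          swap_apply_right] at this
        simp [ha, Fin.ext_iff] at this
        omega
      · refine ⟨swap (⟨0, by omega⟩ : Fin n) ⟨n - 2, by omega⟩ * swap ⟨1, by omega⟩ ⟨2, by omega⟩,
          ⟨?_, ?_⟩, ⟨0, by omega⟩, by simp only; omega, ?_⟩
        · refine MulAction.mem_stabilizer_iff.mpr ?_
          rw [Perm.smul_def]
          apply swap_mul_swap_fix <;> simp [ha, Fin.ext_iff] <;> omega
        · refine Perm.mem_alternatingGroup.mpr ?_
          rw [map_mul, Perm.sign_swap, Perm.sign_swap] <;>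
            simp [Fin.ext_iff] <;> omega
        · rw [swap_mul_swap_left]
          · simp only; omega
          · simp [Fin.ext_iff]
          · simp [Fin.ext_iff]

end CfsgLib.SylowAlt
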