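/-
Direct decompositions of the Sylow 2-subgroups of the alternating groups.
The dyadic blocks of `Fin n` are the classes `a / 2 ^ e = n / 2 ^ e - 1` with `n / 2 ^ e` odd.
-/
import Cfsg.Prelude.Def_TwoFusion
import Cfsg.Agent.SylowAlt.Normalizer
import Cfsg.Agent.SylowAlt.Overgroups
import Mathlib.GroupTheory.PGroup

set_option autoImplicit false

namespace CfsgLib.SylowAltDec

open Equiv CfsgLib.SylowAlt

variable {n : ℕ}

/-- The even part of the tree group, as a group of permutations. -/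
def evenTree (n : ℕ) : Subgroup (Perm (Fin n)) := tree n ⊓ alternatingGroup (Fin n)

theorem mem_evenTree {σ : Perm (Fin n)} : σ ∈ evenTree n ↔ σ ∈ tree n ∧ Perm.sign σ = 1 := by
  simp [evenTree, Perm.mem_alternatingGroup]

/-- `e` is the exponent of a dyadic block of size at least four. -/
def Blk (n e : ℕ) : Prop := 2 ≤ e ∧ n / 2 ^ e % 2 = 1

/-- The point `a` lies in the block of exponent `e`. -/
def InB (e : ℕ) (a : Fin n) : Prop := a.val / 2 ^ e = n / 2 ^ e - 1

theorem div_pow_succ (x e : ℕ) : x / 2 ^ (e + 1) = x / 2 ^ e / 2 := by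
  rw [pow_succ, Nat.div_div_eq_div_mul]

theorem inB_stable {e : ℕ} (he : Blk n e) {σ : Perm (Fin n)} (hσ : σ ∈ tree n) {a : Fin n}
    (ha : InB e a) : InB e (σ a) := by
  have hodd := he.2
  unfold InB at ha ⊢
  have h1 := last_class (mem_tree.mp hσ (e + 1)) a
  have h0 := last_class (mem_tree.mp hσ e) a
  have hle := Nat.div_le_div_right (c := 2 ^ e) (σ a).isLt.le
  rw [div_pow_succ, div_pow_succ, div_pow_succ] at h1
  generalize n / 2 ^ e = q at *
  generalize a.val / 2 ^ e = u at *
  generalize (σ a).val / 2 ^ e = v at *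
  omega

/-- A point below `4 * (n / 4)` lies in a block. -/
theorem exists_blk {a : Fin n} (ha : a.val < 4 * (n / 4)) : ∃ e, Blk n e ∧ InB e a := by
  have key : ∀ d e, 2 ≤ e → n ≤ 2 ^ (e + d) → a.val / 2 ^ e < n / 2 ^ e →
      ∃ e', Blk n e' ∧ InB e' a := by
    intro d
    induction d with
    | zero =>
      intro e he hn hlt
      rw [Nat.add_zero] at hn
      rcases Nat.lt_or_ge n (2 ^ e) with h | h
      · rw [Nat.div_eq_of_lt h] at hlt; exact absurd hlt (Nat.not_lt_zero _)
      · have hne : n = 2 ^ e := le_antisymm hn h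
        refine ⟨e, ⟨he, ?_⟩, ?_⟩
        · rw [hne, Nat.div_self (Nat.two_pow_pos e)]
        · unfold InB
          have h1 : n / 2 ^ e = 1 := by rw [hne, Nat.div_self (Nat.two_pow_pos e)]
          generalize n / 2 ^ e = q at *
          generalize a.val / 2 ^ e = u at *
          omega
    | succ d ih =>
      intro e he hn hlt
      by_cases h : a.val / 2 ^ (e + 1) < n / 2 ^ (e + 1)
      · exact ih (e + 1) (by omega) (by rwa [Nat.add_right_comm, Nat.add_assoc]) h
      · rw [div_pow_succ, div_pow_succ] at h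
        generalize hq : n / 2 ^ e = q at h hlt
        generalize hu : a.val / 2 ^ e = u at h hlt
        exact ⟨e, ⟨he, by omega⟩, by unfold InB; rw [hq, hu]; omega⟩
  refine key n 2 le_rfl ?_ ?_
  · exact le_trans n.lt_two_pow_self.le (Nat.pow_le_pow_right (by norm_num) (by omega))
  · norm_num; omega

theorem blk_eq_of_inB {e e' : ℕ} (he : Blk n e) (he' : Blk n e') {a : Fin n} (ha : InB e a)
    (ha' : InB e' a) : e = e' := by
  have key : ∀ e e' : ℕ, Blk n e → Blk n e' → InB e a → InB e' a → ¬ e < e' := by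
    intro e e' he he' ha ha' hlt
    obtain ⟨k, rfl⟩ : ∃ k, e' = e + 1 + k := ⟨e' - (e + 1), by omega⟩
    have hodd := he.2
    have hodd' := he'.2
    unfold InB at ha ha'
    have h1 : a.val / 2 ^ (e + 1) = n / 2 ^ (e + 1) := by
      rw [div_pow_succ, div_pow_succ]
      generalize n / 2 ^ e = q at *
      generalize a.val / 2 ^ e = u at *
      omega
    rw [pow_add, ← Nat.div_div_eq_div_mul, ← Nat.div_div_eq_div_mul, h1] at ha'
    rw [pow_add, ← Nat.div_div_eq_div_mul] at hodd'
    omega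
  have := key e e' he he' ha ha'
  have := key e' e he' he ha' ha
  omega

theorem inB_lt {e : ℕ} (he : Blk n e) {a : Fin n} (ha : InB e a) : a.val < 4 * (n / 4) := by
  have hodd := he.2
  obtain ⟨k, rfl⟩ : ∃ k, e = 2 + k := ⟨e - 2, by have := he.1; omega⟩
  unfold InB at ha
  rw [pow_add, ← Nat.div_div_eq_div_mul, ← Nat.div_div_eq_div_mul] at ha
  rw [pow_add, ← Nat.div_div_eq_div_mul] at hodd
  norm_num at ha hodd
  by_contra hc
  have h4 : a.val / 4 = n / 4 := by have := a.isLt; omega
  rw [h4] at ha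
  omega

theorem inB_congr {e k : ℕ} (hk : k ≤ e) {a b : Fin n} (h : a.val / 2 ^ k = b.val / 2 ^ k)
    (ha : InB e a) : InB e b := by
  obtain ⟨j, rfl⟩ : ∃ j, e = k + j := ⟨e - k, by omega⟩
  unfold InB at ha ⊢
  rw [pow_add, ← Nat.div_div_eq_div_mul, ← Nat.div_div_eq_div_mul] at ha ⊢
  rwa [← h]

theorem blk_unique {r e : ℕ} (hr : 4 * (n / 4) = 2 ^ r) (he : Blk n e) : e = r := by
  have hodd := he.2
  obtain ⟨k, rfl⟩ : ∃ k, e = 2 + k := ⟨e - 2, by have := he.1; omega⟩
  rw [pow_add, ← Nat.div_div_eq_div_mul] at hodd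
  norm_num at hodd
  have h2 : 2 ≤ r := by
    by_contra hc
    have : r = 0 ∨ r = 1 := by omega
    rcases this with h | h <;> subst h <;> norm_num at hr <;> omega
  obtain ⟨j, rfl⟩ : ∃ j, r = 2 + j := ⟨r - 2, by omega⟩
  have hq : n / 4 = 2 ^ j := by rw [pow_add] at hr; omega
  rw [hq] at hodd
  rcases Nat.lt_trichotomy k j with h | h | h
  · rw [Nat.pow_div h.le (by norm_num)] at hodd
    have : 2 ∣ 2 ^ (j - k) := dvd_pow_self 2 (by omega)
    omega
  · omega
  · rw [Nat.div_eq_of_lt (Nat.pow_lt_pow_right (by norm_num) h)] at hodd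
    omega

theorem pair_eq {a b c : Fin n} (hab : a.val / 2 = b.val / 2) (hac : a.val / 2 = c.val / 2)
    (hb : b ≠ a) (hc : c ≠ a) : b = c := by
  have h1 : b.val ≠ a.val := fun e => hb (Fin.ext e)
  have h2 : c.val ≠ a.val := fun e => hc (Fin.ext e)
  exact Fin.ext (by omega)

theorem papp (σ : Perm (Fin n)) (a : Fin n) : σ (σ⁻¹ a) = a := by simp

theorem pairSwap_self (j : Fin (n / 2)) : pairSwap j * pairSwap j = 1 := swap_mul_self _ _

theorem two_pairSwap_mem (i j : Fin (n / 2)) : pairSwap i * pairSwap j ∈ evenTree n :=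
  mem_evenTree.mpr ⟨(tree n).mul_mem (pairSwap_mem_tree i) (pairSwap_mem_tree j), by
    rw [map_mul, sign_pairSwap, sign_pairSwap]; rfl⟩

/-- Flipping the two pairs of a quad. -/
def quadFlip (i : Fin (n / 4)) : Perm (Fin n) :=
  pairSwap ⟨2 * i.val, by omega⟩ * pairSwap ⟨2 * i.val + 1, by omega⟩

/-- `r` flips all pairs in some of the complete quads, and fixes everything else. -/
def QFlip (r : Perm (Fin n)) : Prop :=
  ∀ a, r a ≠ a → a.val < 4 * (n / 4) ∧ (r a).val / 2 = a.val / 2 ∧
    ∀ b : Fin n, b.val / 4 = a.val / 4 → r b ≠ b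

theorem quadFlip_fix (i : Fin (n / 4)) {a : Fin n} (h : a.val / 4 ≠ i.val) :
    quadFlip i a = a := by
  rw [quadFlip, Perm.mul_apply,
    pairSwap_apply_of_ne (j := ⟨2 * i.val + 1, _⟩) (by simp only; omega),
    pairSwap_apply_of_ne (j := ⟨2 * i.val, _⟩) (by simp only; omega)]

theorem quadFlip_move (i : Fin (n / 4)) {a : Fin n} (h : a.val / 4 = i.val) :
    quadFlip i a ≠ a ∧ (quadFlip i a).val / 2 = a.val / 2 := by
  rw [quadFlip, Perm.mul_apply]
  refine ⟨?_, by rw [pairSwap_div, pairSwap_div]⟩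
  by_cases h2 : a.val / 2 = 2 * i.val
  · rw [pairSwap_apply_of_ne (j := ⟨2 * i.val + 1, _⟩) (by simp only; omega)]
    exact pairSwap_apply_ne h2
  · have h3 : (pairSwap (⟨2 * i.val + 1, by omega⟩ : Fin (n / 2)) a).val / 2 ≠ 2 * i.val := by
      rw [pairSwap_div]; exact h2
    rw [pairSwap_apply_of_ne (j := ⟨2 * i.val, _⟩) h3]
    exact pairSwap_apply_ne (by simp only; omega)

theorem qflip_mem (H : Subgroup (Perm (Fin n))) (hH : ∀ i, quadFlip i ∈ H) :
    ∀ r : Perm (Fin n), QFlip r → r ∈ H := by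
  intro r
  induction hk : r.support.card using Nat.strong_induction_on generalizing r with
  | _ k ih =>
  intro hr
  by_cases h1 : r = 1
  · rw [h1]; exact H.one_mem
  obtain ⟨a, ha⟩ : ∃ a, r a ≠ a := by
    by_contra hc
    simp only [not_exists, not_not] at hc
    exact h1 (Equiv.ext fun a => by simpa using hc a)
  obtain ⟨halt, -, hquad⟩ := hr a ha
  set i : Fin (n / 4) := ⟨a.val / 4, by omega⟩ with hi
  have hin : ∀ b : Fin n, b.val / 4 = a.val / 4 → (quadFlip i * r) b = b := by
    intro b hb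
    obtain ⟨-, hb2, -⟩ := hr b (hquad b hb)
    have hrb : (r b).val / 4 = i.val := by simp only [hi]; omega
    obtain ⟨hm, hm2⟩ := quadFlip_move i hrb
    rw [Perm.mul_apply]
    exact pair_eq hm2.symm hb2 hm (hquad b hb).symm
  have hout : ∀ b : Fin n, b.val / 4 ≠ a.val / 4 → (quadFlip i * r) b = r b := by
    intro b hb
    rw [Perm.mul_apply]
    apply quadFlip_fix
    by_cases hf : r b = b
    · rw [hf]; exact hb
    · obtain ⟨-, hb2, -⟩ := hr b hf
      simp only [hi]; omega
  have hQ : QFlip (quadFlip i * r) := by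
    intro b hb
    have hne : b.val / 4 ≠ a.val / 4 := fun e => hb (hin b e)
    rw [hout b hne] at hb ⊢
    obtain ⟨p1, p2, p3⟩ := hr b hb
    refine ⟨p1, p2, fun c hc => ?_⟩
    rw [hout c (by omega)]
    exact p3 c hc
  have hlt : (quadFlip i * r).support.card < k := by
    rw [← hk]
    apply Finset.card_lt_card
    rw [Finset.ssubset_iff_of_subset]
    · exact ⟨a, Perm.mem_support.mpr ha, fun h => Perm.mem_support.mp h (hin a rfl)⟩
    · intro b hb
      rw [Perm.mem_support] at hb ⊢
      rwa [hout b fun e => hb (hin b e)] at hb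
  have hmem := ih _ hlt (quadFlip i * r) rfl hQ
  have : r = (quadFlip i)⁻¹ * (quadFlip i * r) := by group
  rw [this]
  exact H.mul_mem (H.inv_mem (hH i)) hmem

theorem qflip_sign {r : Perm (Fin n)} (hr : QFlip r) : Perm.sign r = 1 := by
  have := qflip_mem (alternatingGroup (Fin n)) (fun i => ?_) r hr
  · exact Perm.mem_alternatingGroup.mp this
  · rw [Perm.mem_alternatingGroup, quadFlip, map_mul, sign_pairSwap, sign_pairSwap]; rfl

/-- `s` preserves each pair of the block `e` and flips all of them or none. -/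
def Cent (e : ℕ) (s : Perm (Fin n)) : Prop :=
  ∀ a : Fin n, InB e a → (s a).val / 2 = a.val / 2 ∧ ∀ b : Fin n, InB e b → (s a = a ↔ s b = b)

theorem cent_comm {e : ℕ} (he : Blk n e) {s g : Perm (Fin n)} (hs : Cent e s) (hg : g ∈ tree n)
    {a : Fin n} (ha : InB e a) : g (s a) = s (g a) := by
  have hga := inB_stable he hg ha
  by_cases h : s a = a
  · rw [h, ((hs a ha).2 (g a) hga).mp h]
  · have h' : s (g a) ≠ g a := fun e' => h (((hs a ha).2 (g a) hga).mpr e')
    have h2 : (g (s a)).val / 2 = (g a).val / 2 := by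
      simpa using (mem_tree.mp hg 1 (s a) a).mpr (by simpa using (hs a ha).1)
    exact pair_eq h2.symm (hs (g a) hga).1.symm (fun e' => h (g.injective e')) h'

/-- An internal decomposition, written with products. -/
structure Dec (n : ℕ) (S₁ S₂ : Subgroup (Perm (Fin n))) : Prop where
  le₁ : S₁ ≤ evenTree n
  le₂ : S₂ ≤ evenTree n
  comm : ∀ a ∈ S₁, ∀ b ∈ S₂, a * b = b * a
  ex : ∀ w ∈ evenTree n, ∃ a ∈ S₁, ∃ b ∈ S₂, w = a * b
  disj : ∀ a ∈ S₁, a ∈ S₂ → a = 1
  ne₁ : S₁ ≠ ⊥
  ne₂ : S₂ ≠ ⊥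

variable {S₁ S₂ : Subgroup (Perm (Fin n))}

theorem Dec.symm (h : Dec n S₁ S₂) : Dec n S₂ S₁ where
  le₁ := h.le₂
  le₂ := h.le₁
  comm a ha b hb := (h.comm b hb a ha).symm
  ex w hw := by
    obtain ⟨a, ha, b, hb, rfl⟩ := h.ex w hw
    exact ⟨b, hb, a, ha, h.comm a ha b hb⟩
  disj a ha hb := h.disj a hb ha
  ne₁ := h.ne₂
  ne₂ := h.ne₁

theorem Dec.conj_mem (h : Dec n S₁ S₂) {w b : Perm (Fin n)} (hw : w ∈ evenTree n) (hb : b ∈ S₂) :
    w * b * w⁻¹ ∈ S₂ := by
  obtain ⟨u, hu, v, hv, rfl⟩ := h.ex w hw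
  have h1 := h.comm u hu (v * b * v⁻¹) (S₂.mul_mem (S₂.mul_mem hv hb) (S₂.inv_mem hv))
  have : u * v * b * (u * v)⁻¹ = v * b * v⁻¹ := by
    calc u * v * b * (u * v)⁻¹ = (u * (v * b * v⁻¹)) * u⁻¹ := by group
      _ = v * b * v⁻¹ := by rw [h1]; group
  rw [this]
  exact S₂.mul_mem (S₂.mul_mem hv hb) (S₂.inv_mem hv)

/-- `t` exchanges the two halves of the block `e`. -/
def Swaps (e : ℕ) (t : Perm (Fin n)) : Prop :=
  ∀ a : Fin n, InB e a → (t a).val / 2 ^ (e - 1) ≠ a.val / 2 ^ (e - 1)

theorem half_cases {e : ℕ} (he : Blk n e) {a : Fin n} (ha : InB e a) :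
    a.val / 2 ^ (e - 1) = 2 * (n / 2 ^ e - 1) ∨ a.val / 2 ^ (e - 1) = 2 * (n / 2 ^ e - 1) + 1 := by
  obtain ⟨f, rfl⟩ : ∃ f, e = f + 1 := ⟨e - 1, by have := he.1; omega⟩
  unfold InB at ha
  rw [div_pow_succ] at ha
  simp only [Nat.add_sub_cancel]
  omega

theorem half_lt_div {e : ℕ} (he : Blk n e) {a : Fin n} (ha : InB e a) :
    a.val / 2 ^ (e - 1) < n / 2 ^ (e - 1) := by
  obtain ⟨f, rfl⟩ : ∃ f, e = f + 1 := ⟨e - 1, by have := he.1; omega⟩
  have h := he.2
  unfold InB at ha
  rw [div_pow_succ] at ha h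
  rw [div_pow_succ] at ha
  simp only [Nat.add_sub_cancel]
  generalize n / 2 ^ f = q at *
  generalize a.val / 2 ^ f = u at *
  omega

theorem exists_other_half {e : ℕ} (he : Blk n e) {a : Fin n} (ha : InB e a) :
    ∃ b : Fin n, InB e b ∧ b.val / 2 ^ (e - 1) ≠ a.val / 2 ^ (e - 1) := by
  obtain ⟨f, rfl⟩ : ∃ f, e = f + 1 := ⟨e - 1, by have := he.1; omega⟩
  have h := he.2
  have hd := half_cases he ha
  rw [div_pow_succ] at h hd
  unfold InB
  simp only [Nat.add_sub_cancel] at hd ⊢
  set c := n / 2 ^ f / 2 - 1 with hc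
  have hp : 0 < 2 ^ f := Nat.two_pow_pos f
  have hn : (2 * c + 1 + 1) * 2 ^ f ≤ n :=
    le_trans (Nat.mul_le_mul_right _ (by
      simp only [hc]
      generalize n / 2 ^ f = q at *
      omega)) (Nat.div_mul_le_self n _)
  rcases hd with hd | hd
  · refine ⟨⟨(2 * c + 1) * 2 ^ f, lt_of_lt_of_le (Nat.mul_lt_mul_of_pos_right (by omega) hp) hn⟩,
      ?_, ?_⟩
    · rw [div_pow_succ, div_pow_succ]; simp only; rw [Nat.mul_div_cancel _ hp]; omega
    · simp only; rw [Nat.mul_div_cancel _ hp]; omega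
  · refine ⟨⟨(2 * c) * 2 ^ f, lt_of_lt_of_le (Nat.mul_lt_mul_of_pos_right (by omega) hp) hn⟩,
      ?_, ?_⟩
    · rw [div_pow_succ, div_pow_succ]; simp only; rw [Nat.mul_div_cancel _ hp]; omega
    · simp only; rw [Nat.mul_div_cancel _ hp]; omega

theorem div_two_half {e : ℕ} (he : 2 ≤ e) {a b : Fin n} (h : a.val / 2 = b.val / 2) :
    a.val / 2 ^ (e - 1) = b.val / 2 ^ (e - 1) := by
  obtain ⟨f, rfl⟩ : ∃ f, e = f + 2 := ⟨e - 2, by omega⟩
  rw [show f + 2 - 1 = f + 1 by omega, pow_succ', ← Nat.div_div_eq_div_mul,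
    ← Nat.div_div_eq_div_mul, h]

theorem half_iff {e : ℕ} {t : Perm (Fin n)} (ht : t ∈ tree n) (a b : Fin n) :
    (t a).val / 2 ^ (e - 1) = (t b).val / 2 ^ (e - 1) ↔
      a.val / 2 ^ (e - 1) = b.val / 2 ^ (e - 1) := mem_tree.mp ht _ a b

theorem swaps_or_fix {e : ℕ} (he : Blk n e) {t : Perm (Fin n)} (ht : t ∈ tree n) :
    Swaps e t ∨ ∀ a : Fin n, InB e a → (t a).val / 2 ^ (e - 1) = a.val / 2 ^ (e - 1) := by
  by_contra hc
  simp only [Swaps, not_or, not_forall, not_not, ne_eq, exists_prop] at hc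
  obtain ⟨⟨a, ha, h1⟩, b, hb, h2⟩ := hc
  have p1 := half_cases he ha
  have p2 := half_cases he hb
  have p3 := half_cases he (inB_stable he ht hb)
  have p4 := half_iff (e := e) ht a b
  omega

/-- The restriction of a tree element to a class it stabilises. -/
theorem restr_mem {f d : ℕ} {τ : Perm (Fin n)} (hτ : τ ∈ tree n)
    (hst : ∀ x : Fin n, (τ x).val / 2 ^ f = d ↔ x.val / 2 ^ f = d) :
    Perm.ofSubtype (τ.subtypePerm (p := fun x : Fin n => x.val / 2 ^ f = d) hst) ∈ tree n := by
  rw [mem_tree]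
  intro i
  set ρ := Perm.ofSubtype (τ.subtypePerm (p := fun x : Fin n => x.val / 2 ^ f = d) hst)
    with hρ
  have hin : ∀ x : Fin n, x.val / 2 ^ f = d → ρ x = τ x := fun x hx => by
    rw [hρ, Perm.ofSubtype_apply_of_mem (p := fun y : Fin n => y.val / 2 ^ f = d) _ (a := x) hx]; rfl
  have hout : ∀ x : Fin n, ¬ x.val / 2 ^ f = d → ρ x = x := fun x hx => by
    rw [hρ, Perm.ofSubtype_apply_of_not_mem (p := fun y : Fin n => y.val / 2 ^ f = d) _ (a := x) hx]
  have hpres : ∀ x : Fin n, (ρ x).val / 2 ^ f = x.val / 2 ^ f := fun x => by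
    by_cases hx : x.val / 2 ^ f = d
    · rw [hin x hx, hx]; exact (hst x).mpr hx
    · rw [hout x hx]
  intro x y
  rcases Nat.lt_or_ge i f with hif | hif
  · obtain ⟨k, rfl⟩ : ∃ k, f = i + k := ⟨f - i, by omega⟩
    have hcoarse : ∀ u v : ℕ, u / 2 ^ i = v / 2 ^ i → u / 2 ^ (i + k) = v / 2 ^ (i + k) := by
      intro u v e
      rw [pow_add, ← Nat.div_div_eq_div_mul, ← Nat.div_div_eq_div_mul, e]
    by_cases hx : x.val / 2 ^ (i + k) = d <;>
      by_cases hy : y.val / 2 ^ (i + k) = d
    · rw [hin x hx, hin y hy]; exact mem_tree.mp hτ i x y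
    · constructor <;> intro e <;> exfalso <;> apply hy
      · rw [← hpres y, ← hcoarse _ _ e, hpres x, hx]
      · rw [← hcoarse _ _ e, hx]
    · constructor <;> intro e <;> exfalso <;> apply hx
      · rw [← hpres x, hcoarse _ _ e, hpres y, hy]
      · rw [hcoarse _ _ e, hy]
    · rw [hout x hx, hout y hy]
  · obtain ⟨k, rfl⟩ : ∃ k, i = f + k := ⟨i - f, by omega⟩
    rw [pow_add, ← Nat.div_div_eq_div_mul, ← Nat.div_div_eq_div_mul, hpres, hpres,
      Nat.div_div_eq_div_mul, Nat.div_div_eq_div_mul]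

/-- Transitivity on a complete class, by an element fixing the rest. -/
theorem exists_supported {f : ℕ} {a b : Fin n} (h : a.val / 2 ^ f = b.val / 2 ^ f)
    (hlt : a.val / 2 ^ f < n / 2 ^ f) :
    ∃ σ ∈ tree n, σ a = b ∧ ∀ x : Fin n, x.val / 2 ^ f ≠ a.val / 2 ^ f → σ x = x := by
  classical
  obtain ⟨τ, hτ, hab⟩ := exists_tree_apply n f h hlt
  have hst : ∀ x : Fin n, (τ x).val / 2 ^ f = a.val / 2 ^ f ↔ x.val / 2 ^ f = a.val / 2 ^ f := by
    intro x
    rw [← mem_tree.mp hτ f x a, hab, ← h]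
  refine ⟨Perm.ofSubtype (τ.subtypePerm (p := fun x : Fin n => x.val / 2 ^ f = a.val / 2 ^ f) hst),
    ?_, ?_, ?_⟩
  · exact restr_mem hτ hst
  · rw [Perm.ofSubtype_apply_of_mem (p := fun y : Fin n => y.val / 2 ^ f = a.val / 2 ^ f) _ (a := a) rfl]; exact hab
  · intro x hx
    rw [Perm.ofSubtype_apply_of_not_mem (p := fun y : Fin n => y.val / 2 ^ f = a.val / 2 ^ f) _ (a := x) hx]

theorem exists_swaps {e : ℕ} (he : Blk n e) {a : Fin n} (ha : InB e a) :
    ∃ w ∈ evenTree n, Swaps e w := by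
  obtain ⟨b, hb, hab⟩ := exists_other_half he ha
  have hlt : a.val / 2 ^ e < n / 2 ^ e := by
    have := he.2
    unfold InB at ha
    generalize n / 2 ^ e = q at *
    generalize a.val / 2 ^ e = u at *
    omega
  obtain ⟨σ, hσ, hσab, -⟩ := exists_supported (a := a) (b := b) (by
    unfold InB at ha hb; omega) hlt
  have ha2 : a.val / 2 < n / 2 := by have := inB_lt he ha; omega
  have key : ∀ t ∈ tree n, (t a).val / 2 ^ (e - 1) = b.val / 2 ^ (e - 1) → Swaps e t := by
    intro t ht htab
    rcases swaps_or_fix he ht with h | h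
    · exact h
    · exact absurd ((h a ha).symm.trans htab) (Ne.symm hab)
  rcases Int.units_eq_one_or (Perm.sign σ) with h | h
  · exact ⟨σ, mem_evenTree.mpr ⟨hσ, h⟩, key σ hσ (by rw [hσab])⟩
  · refine ⟨pairSwap ⟨a.val / 2, ha2⟩ * σ, mem_evenTree.mpr
      ⟨(tree n).mul_mem (pairSwap_mem_tree _) hσ, by rw [map_mul, sign_pairSwap, h]; rfl⟩,
      key _ ((tree n).mul_mem (pairSwap_mem_tree _) hσ) ?_⟩
    rw [Perm.mul_apply, hσab]
    exact div_two_half he.1 (pairSwap_div _ b)

/-- An element centralised by an exchange of halves and preserving the halves is central on the block. -/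
theorem Dec.cent_of_fix (h : Dec n S₁ S₂) {e : ℕ} (he : Blk n e) {jc : Fin (n / 2)}
    (hjc : ∀ a : Fin n, a.val / 2 = jc.val → ¬ InB e a) {x : Perm (Fin n)} (hx : x ∈ S₁)
    (hxs : Swaps e x) {b : Perm (Fin n)} (hb : b ∈ S₂)
    (hbf : ∀ a : Fin n, InB e a → (b a).val / 2 ^ (e - 1) = a.val / 2 ^ (e - 1)) : Cent e b := by
  have hxT := (mem_evenTree.mp (h.le₁ hx)).1
  have hbT := (mem_evenTree.mp (h.le₂ hb)).1
  have hxinv : ∀ a, InB e a → InB e (x⁻¹ a) := fun a ha => inB_stable he ((tree n).inv_mem hxT) ha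
  have L1 : ∀ z : Fin n, InB e z → ∀ g ∈ evenTree n,
      (∀ a : Fin n, InB e a → a.val / 2 ^ (e - 1) = z.val / 2 ^ (e - 1) → g a = a) →
      ∀ a : Fin n, InB e a → g (b a) = b (g a) := by
    intro z hz g hg hfix
    set d := z.val / 2 ^ (e - 1) with hzd
    have hginv : ∀ a : Fin n, InB e a → a.val / 2 ^ (e - 1) = d → g⁻¹ a = a := fun a ha hd => by
      conv_lhs => rw [← hfix a ha hd]
      simp
    set c := g * b * g⁻¹ * b⁻¹ with hc
    have hcS : c ∈ S₂ := S₂.mul_mem (h.conj_mem hg hb) (S₂.inv_mem hb)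
    have hc0 : ∀ a : Fin n, InB e a → a.val / 2 ^ (e - 1) = d → c a = a := by
      intro a ha hd
      have hb' : InB e (b⁻¹ a) := inB_stable he ((tree n).inv_mem hbT) ha
      have hd' : (b⁻¹ a).val / 2 ^ (e - 1) = d := by
        have h2 := hbf _ hb'
        simp only [papp] at h2
        omega
      simp only [hc, Perm.mul_apply]
      rw [hginv _ hb' hd', papp, hfix a ha hd]
    have hall : ∀ a : Fin n, InB e a → c a = a := by
      intro a ha
      by_cases hd : a.val / 2 ^ (e - 1) = d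
      · exact hc0 a ha hd
      obtain ⟨a0, rfl⟩ := x.surjective a
      have ha0 : InB e a0 := by simpa using hxinv _ ha
      by_cases hd1 : a0.val / 2 ^ (e - 1) = d
      · have hcx := congrArg (fun t : Perm (Fin n) => t a0) (h.comm x hx c hcS)
        simp only [Perm.mul_apply] at hcx
        rw [← hcx, hc0 a0 ha0 hd1]
      · -- both halves differ from `d`: then `x` fixes the half
        exfalso
        have p1 := half_cases he ha0
        have p2 := half_cases he ha
        have p3 := hxs a0 ha0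
        have p4 := half_cases he hz
        omega
    intro a ha
    have hga := inB_stable he (mem_evenTree.mp hg).1 ha
    have h1 := hall (b (g a)) (inB_stable he hbT hga)
    simpa [hc] using h1
  have hfixjc : ∀ a : Fin n, InB e a → pairSwap jc a = a :=
    fun a ha => pairSwap_apply_of_ne fun e' => hjc a e' ha
  -- every pair is preserved
  have hpair : ∀ a : Fin n, InB e a → (b a).val / 2 = a.val / 2 := by
    intro a ha
    by_contra hne
    obtain ⟨z, hz, hzd⟩ := exists_other_half he ha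
    have hba := inB_stable he hbT ha
    have hlt : (b a).val / 2 < n / 2 := by have := inB_lt he hba; omega
    set w := pairSwap ⟨(b a).val / 2, hlt⟩ * pairSwap jc with hw
    have hwf : ∀ u : Fin n, InB e u → u.val / 2 ≠ (b a).val / 2 → w u = u := fun u hu hu2 => by
      rw [hw, Perm.mul_apply, hfixjc u hu]
      exact pairSwap_apply_of_ne hu2
    have hcom := L1 z hz w (two_pairSwap_mem _ _) (fun u hu hd => hwf u hu ?_) a ha
    · rw [hwf a ha (Ne.symm hne)] at hcom
      rw [hw, Perm.mul_apply, hfixjc _ hba] at hcom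
      exact pairSwap_apply_ne (j := ⟨(b a).val / 2, hlt⟩) rfl hcom
    · intro e'
      have := div_two_half he.1 e'
      rw [hbf a ha] at this
      omega
  have huni : ∀ a u : Fin n, InB e a → InB e u → b a = a → b u = u := by
    intro a u ha hu hfa
    have main : ∀ a u : Fin n, InB e a → InB e u → a.val / 2 ^ (e - 1) = u.val / 2 ^ (e - 1) →
        b a = a → b u = u := by
      intro a u ha hu hd hfa
      obtain ⟨σ, hσ, hau, hσf⟩ := exists_supported hd (half_lt_div he ha)
      obtain ⟨z, hz, hzd⟩ := exists_other_half he ha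
      have hg : ∃ g ∈ evenTree n, ∀ v : Fin n, InB e v → g v = σ v := by
        rcases Int.units_eq_one_or (Perm.sign σ) with hs | hs
        · exact ⟨σ, mem_evenTree.mpr ⟨hσ, hs⟩, fun _ _ => rfl⟩
        · refine ⟨pairSwap jc * σ, mem_evenTree.mpr
            ⟨(tree n).mul_mem (pairSwap_mem_tree _) hσ, by rw [map_mul, sign_pairSwap, hs]; rfl⟩, ?_⟩
          intro v hv
          rw [Perm.mul_apply, hfixjc _ (inB_stable he hσ hv)]
      obtain ⟨g, hg, hgσ⟩ := hg
      have hcom := L1 z hz g hg (fun v hv hd => by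
        rw [hgσ v hv]; exact hσf v (by omega)) a ha
      rw [hfa, hgσ a ha, hau] at hcom
      exact hcom.symm
    by_cases hd : a.val / 2 ^ (e - 1) = u.val / 2 ^ (e - 1)
    · exact main a u ha hu hd hfa
    · refine main (x a) u (inB_stable he hxT ha) hu ?_ ?_
      · have p1 := half_cases he ha
        have p2 := half_cases he hu
        have p3 := half_cases he (inB_stable he hxT ha)
        have p4 := hxs a ha
        omega
      · have := congrArg (fun t : Perm (Fin n) => t a) (h.comm x hx b hb)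
        simp only [Perm.mul_apply, hfa] at this
        exact this.symm
  exact fun a ha => ⟨hpair a ha, fun u hu => ⟨huni a u ha hu, huni u a hu ha⟩⟩

/-- Both factors exchange halves: the first is commutative on the block. -/
theorem Dec.comm_on (h : Dec n S₁ S₂) {e : ℕ} (he : Blk n e) {jc : Fin (n / 2)}
    (hjc : ∀ a : Fin n, a.val / 2 = jc.val → ¬ InB e a) {y : Perm (Fin n)} (hy : y ∈ S₂)
    (hys : Swaps e y) {s t : Perm (Fin n)} (hs : s ∈ S₁) (ht : t ∈ S₁) {a : Fin n} (ha : InB e a) :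
    s (t a) = t (s a) := by
  have hT : ∀ u ∈ S₁, u ∈ tree n := fun u hu => (mem_evenTree.mp (h.le₁ hu)).1
  have cent : ∀ u ∈ S₁, (∀ a : Fin n, InB e a →
      (u a).val / 2 ^ (e - 1) = a.val / 2 ^ (e - 1)) → Cent e u :=
    fun u hu hf => h.symm.cent_of_fix he hjc hy hys hu hf
  rcases swaps_or_fix he (hT s hs) with h1 | h1
  · rcases swaps_or_fix he (hT t ht) with h2 | h2
    · have hk : ∀ v : Fin n, InB e v →
          ((s⁻¹ * t) v).val / 2 ^ (e - 1) = v.val / 2 ^ (e - 1) := by
        intro v hv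
        rw [Perm.mul_apply]
        have p1 := inB_stable he (hT t ht) hv
        have p2 := inB_stable he ((tree n).inv_mem (hT s hs)) p1
        have p3 := h1 _ p2
        rw [papp] at p3
        have q1 := half_cases he hv
        have q2 := half_cases he p1
        have q3 := half_cases he p2
        have p4 := h2 v hv
        omega
      have hc := cent (s⁻¹ * t) (S₁.mul_mem (S₁.inv_mem hs) ht) hk
      have h3 := cent_comm he hc (hT s hs) ha
      simp only [Perm.mul_apply, papp] at h3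
      have h4 : s (s⁻¹ (t (s a))) = s (s (s⁻¹ (t a))) := by
        rw [h3]
        simp only [papp]
      simp only [papp] at h4
      exact h4.symm
    · exact cent_comm he (cent t ht h2) (hT s hs) ha
  · exact (cent_comm he (cent s hs h1) (hT t ht) ha).symm

theorem Dec.cent_dichotomy (h : Dec n S₁ S₂) {e : ℕ} (he : Blk n e) {jc : Fin (n / 2)}
    (hjc : ∀ a : Fin n, a.val / 2 = jc.val → ¬ InB e a) {a : Fin n} (ha : InB e a) :
    (∀ b ∈ S₂, Cent e b) ∨ ∀ b ∈ S₁, Cent e b := by
  by_cases h1 : ∃ x ∈ S₁, Swaps e x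
  · by_cases h2 : ∃ y ∈ S₂, Swaps e y
    · exfalso
      obtain ⟨x, hx, hxs⟩ := h1
      obtain ⟨y, hy, hys⟩ := h2
      have hlt : a.val / 2 < n / 2 := by have := inB_lt he ha; omega
      set g := pairSwap ⟨a.val / 2, hlt⟩ * pairSwap jc with hg
      obtain ⟨g1, hg1, g2, hg2, hgeq⟩ := h.ex g (two_pairSwap_mem _ _)
      have hT1 := (mem_evenTree.mp (h.le₁ hx)).1
      have c1 := h.comm_on he hjc hy hys hx hg1
        (inB_stable he (mem_evenTree.mp (h.le₂ hg2)).1 ha)
      have c2 := congrArg (fun t : Perm (Fin n) => t a) (h.comm x hx g2 hg2)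
      simp only [Perm.mul_apply] at c2
      have c3 : x (g a) = g (x a) := by
        rw [hgeq, Perm.mul_apply, Perm.mul_apply, c1, c2]
      have hxa := inB_stable he hT1 ha
      have hfix : g (x a) = x a := by
        rw [hg, Perm.mul_apply, pairSwap_apply_of_ne (fun e' => hjc _ e' hxa)]
        exact pairSwap_apply_of_ne fun e' => hxs a ha (div_two_half he.1 e')
      rw [hfix] at c3
      have c4 := x.injective c3
      rw [hg, Perm.mul_apply, pairSwap_apply_of_ne (fun e' => hjc _ e' ha)] at c4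
      exact pairSwap_apply_ne rfl c4
    · left
      obtain ⟨x, hx, hxs⟩ := h1
      exact fun b hb => h.cent_of_fix he hjc hx hxs hb
        ((swaps_or_fix he (mem_evenTree.mp (h.le₂ hb)).1).resolve_left fun hs => h2 ⟨b, hb, hs⟩)
  · obtain ⟨w, hw, hws⟩ := exists_swaps he ha
    obtain ⟨u, hu, v, hv, rfl⟩ := h.ex w hw
    have hu' := (swaps_or_fix he (mem_evenTree.mp (h.le₁ hu)).1).resolve_left
      fun hs => h1 ⟨u, hu, hs⟩
    have hvs : Swaps e v := fun z hz => by
      have := hws z hz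
      rw [Perm.mul_apply, hu' _ (inB_stable he (mem_evenTree.mp (h.le₂ hv)).1 hz)] at this
      exact this
    right
    exact fun b hb => h.symm.cent_of_fix he hjc hv hvs hb
      ((swaps_or_fix he (mem_evenTree.mp (h.le₁ hb)).1).resolve_left fun hs => h1 ⟨b, hb, hs⟩)

theorem top_fix {σ : Perm (Fin n)} (hσ : σ ∈ tree n) {a : Fin n} (ha : 2 * (n / 2) ≤ a.val) :
    σ a = a := by
  have h1 := last_class (mem_tree.mp hσ 1) a
  simp only [pow_one] at h1
  have h2 := (σ a).isLt
  have h3 := a.isLt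
  exact Fin.ext (by omega)

theorem top_pair {σ : Perm (Fin n)} (hσ : σ ∈ tree n) {a : Fin n} (ha : 4 * (n / 4) ≤ a.val) :
    (σ a).val / 2 = a.val / 2 := by
  have h1 := last_class (mem_tree.mp hσ 1) a
  have h2 := last_class (mem_tree.mp hσ 2) a
  norm_num at h1 h2
  have := (σ a).isLt
  have := a.isLt
  omega

/-- If one factor is central on every block, it lies in the other. -/
theorem Dec.false_of_all_cent (h : Dec n S₁ S₂) (hn : 6 ≤ n)
    (hall : ∀ e, Blk n e → ∀ b ∈ S₂, Cent e b) : False := by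
  have hq : ∀ b ∈ S₂, QFlip b := by
    intro b hb
    obtain ⟨hbT, hbs⟩ := mem_evenTree.mp (h.le₂ hb)
    have inside : ∀ a : Fin n, a.val < 4 * (n / 4) → b a ≠ a →
        (b a).val / 2 = a.val / 2 ∧ ∀ c : Fin n, c.val / 4 = a.val / 4 → b c ≠ c := by
      intro a halt hba
      obtain ⟨e, he, hae⟩ := exists_blk halt
      have hc := hall e he b hb a hae
      exact ⟨hc.1, fun c hc' he' => hba ((hc.2 c (inB_congr he.1 (by norm_num; omega) hae)).mpr he')⟩
    by_cases hout : ∀ a : Fin n, 4 * (n / 4) ≤ a.val → b a = a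
    · intro a hba
      have halt : a.val < 4 * (n / 4) := by
        by_contra hc; exact hba (hout a (by omega))
      exact ⟨halt, inside a halt hba⟩
    · exfalso
      simp only [not_forall, exists_prop] at hout
      obtain ⟨a0, ha0, hba0⟩ := hout
      have ha2 : a0.val < 2 * (n / 2) := by
        by_contra hc; exact hba0 (top_fix hbT (by omega))
      set j : Fin (n / 2) := ⟨a0.val / 2, by omega⟩ with hj
      have hhigh : ∀ a : Fin n, 4 * (n / 4) ≤ a.val → (pairSwap j * b) a = a := by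
        intro a ha
        rw [Perm.mul_apply]
        by_cases hp : a.val / 2 = j.val
        · have hb2 := top_pair hbT ha
          have hmove : b a ≠ a := by
            intro he'
            by_cases haa : a = a0
            · exact hba0 (haa ▸ he')
            · have : b a0 = a := pair_eq (a := a0) (top_pair hbT ha0).symm
                (by simp only [hj] at hp; omega) hba0 haa
              exact hba0 (by rw [this]; exact b.injective (he'.trans this.symm))
          exact pair_eq (a := b a) (pairSwap_div j (b a)).symm hb2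
            (pairSwap_apply_ne (by omega)) hmove.symm
        · have hb2 := top_pair hbT ha
          rw [pairSwap_apply_of_ne (by omega)]
          have hlast : 2 * (n / 2) ≤ a.val := by
            simp only [hj] at hp
            have := a0.isLt
            have := a.isLt
            omega
          exact top_fix hbT hlast
      have hlow : ∀ a : Fin n, a.val < 4 * (n / 4) → (pairSwap j * b) a = b a := by
        intro a ha
        rw [Perm.mul_apply]
        apply pairSwap_apply_of_ne
        have h2 := last_class (mem_tree.mp hbT 2) a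
        norm_num at h2
        simp only [hj]
        have := (b a).isLt
        omega
      have hQ : QFlip (pairSwap j * b) := by
        intro a ha
        have halt : a.val < 4 * (n / 4) := by
          by_contra hc; exact ha (hhigh a (by omega))
        rw [hlow a halt] at ha ⊢
        obtain ⟨p1, p2⟩ := inside a halt ha
        refine ⟨halt, p1, fun c hc => ?_⟩
        rw [hlow c (by omega)]
        exact p2 c hc
      have := qflip_sign hQ
      rw [map_mul, sign_pairSwap, hbs] at this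
      exact absurd this (by decide)
  have hcent : ∀ b ∈ S₂, ∀ g ∈ tree n, g * b = b * g := by
    intro b hb g hg
    refine Equiv.ext fun a => ?_
    simp only [Perm.mul_apply]
    by_cases halt : a.val < 4 * (n / 4)
    · obtain ⟨e, he, hae⟩ := exists_blk halt
      exact cent_comm he (hall e he b hb) hg hae
    · have h1 : b a = a := by
        by_contra hne; exact halt (hq b hb a hne).1
      have h2 : ¬ (g a).val < 4 * (n / 4) := by
        have := last_class (mem_tree.mp hg 2) a
        norm_num at this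
        have := a.isLt
        have := (g a).isLt
        omega
      have h3 : b (g a) = g a := by
        by_contra hne; exact h2 (hq b hb _ hne).1
      rw [h1, h3]
  have hquad : ∀ i, quadFlip i ∈ S₁ := by
    intro i
    set p0 : Fin (n / 2) := ⟨2 * i.val, by omega⟩ with hp0
    set p1 : Fin (n / 2) := ⟨2 * i.val + 1, by omega⟩ with hp1
    obtain ⟨jc, hjc0, hjc1⟩ : ∃ jc : Fin (n / 2), jc.val ≠ 2 * i.val ∧ jc.val ≠ 2 * i.val + 1 := by
      by_cases hi : i.val = 0
      · exact ⟨⟨2, by omega⟩, by simp only; omega, by simp only; omega⟩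
      · exact ⟨⟨0, by omega⟩, by simp only; omega, by simp only; omega⟩
    set t : Perm (Fin (n / 2)) := pairSwap ⟨i.val, by omega⟩ with ht
    have htv : t = swap p0 p1 := by
      rw [ht, pairSwap]
    have hv : lift n t ∈ evenTree n :=
      mem_evenTree.mpr ⟨lift_mem_tree (pairSwap_mem_tree _), sign_lift t⟩
    have hu := two_pairSwap_mem p0 jc
    have hconj : lift n t * (pairSwap p0 * pairSwap jc) * (lift n t)⁻¹ =
        pairSwap p1 * pairSwap jc := by
      have e1 : ∀ j : Fin (n / 2), lift n t * pairSwap j * (lift n t)⁻¹ = pairSwap (t j) := by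
        intro j
        rw [conj_pairSwap, pairSwap]
        congr 1
        · apply Fin.ext
          simp only [lift_apply]
          rw [liftFun_val (by simp only; omega)]
          simp only
          have : (⟨2 * j.val / 2, by omega⟩ : Fin (n / 2)) = j := Fin.ext (by simp only; omega)
          rw [this]
          omega
        · apply Fin.ext
          simp only [lift_apply]
          rw [liftFun_val (by simp only; omega)]
          simp only
          have : (⟨(2 * j.val + 1) / 2, by omega⟩ : Fin (n / 2)) = j := Fin.ext (by simp only; omega)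
          rw [this]
          omega
      calc lift n t * (pairSwap p0 * pairSwap jc) * (lift n t)⁻¹
          = (lift n t * pairSwap p0 * (lift n t)⁻¹) * (lift n t * pairSwap jc * (lift n t)⁻¹) := by
            group
        _ = pairSwap p1 * pairSwap jc := by
          rw [e1, e1, htv, swap_apply_left, swap_apply_of_ne_of_ne]
          · exact fun e => hjc0 (congrArg Fin.val e)
          · exact fun e => hjc1 (congrArg Fin.val e)
    obtain ⟨u1, hu1, u2, hu2, hueq⟩ := h.ex _ hu
    obtain ⟨v1, hv1, v2, hv2, hveq⟩ := h.ex _ hv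
    have huT := fun {z} (hz : z ∈ S₁) => (mem_evenTree.mp (h.le₁ hz)).1
    have huT2 := fun {z} (hz : z ∈ S₂) => (mem_evenTree.mp (h.le₂ hz)).1
    have hcm : ∀ z ∈ S₂, ∀ g ∈ evenTree n, Commute z g := fun z hz g hg =>
      (hcent z hz g (mem_evenTree.mp hg).1).symm
    have hU : pairSwap p0 * pairSwap jc = u2 * u1 := by rw [hueq]; exact h.comm u1 hu1 u2 hu2
    have key : lift n t * (pairSwap p0 * pairSwap jc) * (lift n t)⁻¹ * (pairSwap p0 * pairSwap jc)⁻¹
        = v1 * u1 * v1⁻¹ * u1⁻¹ := by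
      have c1 : v2 * (u1 * u2) * v2⁻¹ = u1 * u2 := by
        rw [(hcm v2 hv2 (u1 * u2) (hueq ▸ hu)).eq]; group
      calc lift n t * (pairSwap p0 * pairSwap jc) * (lift n t)⁻¹ * (pairSwap p0 * pairSwap jc)⁻¹
          = v1 * (v2 * (u1 * u2) * v2⁻¹) * v1⁻¹ * (u1 * u2)⁻¹ := by rw [hveq, hueq]; group
        _ = v1 * u1 * (u2 * v1⁻¹) * (u1 * u2)⁻¹ := by rw [c1]; group
        _ = v1 * u1 * v1⁻¹ * u1⁻¹ := by
          rw [(hcm u2 hu2 v1⁻¹ ((evenTree n).inv_mem (h.le₁ hv1))).eq]; group
    have hq' : quadFlip i = v1 * u1 * v1⁻¹ * u1⁻¹ := by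
      rw [← key, hconj, quadFlip]
      have hc0 : pairSwap p1 * pairSwap jc * (pairSwap p0 * pairSwap jc)⁻¹ =
          pairSwap p1 * (pairSwap p0)⁻¹ := by group
      rw [hc0]
      have hinv : (pairSwap p0)⁻¹ = pairSwap p0 := swap_inv _ _
      rw [hinv]
      refine (commute_swap_swap ?_ ?_ ?_ ?_).eq <;>
        (intro e; have := congrArg Fin.val e; simp only [hp0, hp1] at this; omega)
    rw [hq']
    exact S₁.mul_mem (S₁.mul_mem (S₁.mul_mem hv1 hu1) (S₁.inv_mem hv1)) (S₁.inv_mem hu1)
  apply h.ne₂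
  rw [Subgroup.eq_bot_iff_forall]
  intro b hb
  exact h.disj b (qflip_mem S₁ hquad b (hq b hb)) hb

theorem Dec.false_of_mixed (h : Dec n S₁ S₂) (h01 : n % 4 ≤ 1)
    (howner : ∀ e, Blk n e → (∀ b ∈ S₂, Cent e b) ∨ ∀ b ∈ S₁, Cent e b)
    {e₁ e₂ : ℕ} (h1 : Blk n e₁) (h2 : Blk n e₂) (hne : e₁ ≠ e₂)
    (hc1 : ∀ b ∈ S₂, Cent e₁ b) (hc2 : ∀ b ∈ S₁, Cent e₂ b) {a1 a2 : Fin n} (ha1 : InB e₁ a1)
    (ha2 : InB e₂ a2) : False := by
  set j1 : Fin (n / 2) := ⟨a1.val / 2, by have := inB_lt h1 ha1; omega⟩ with hj1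
  set j2 : Fin (n / 2) := ⟨a2.val / 2, by have := inB_lt h2 ha2; omega⟩ with hj2
  obtain ⟨s1, hs1, s2, hs2, heq⟩ := h.ex _ (two_pairSwap_mem j1 j2)
  obtain ⟨hs1T, hs1s⟩ := mem_evenTree.mp (h.le₁ hs1)
  obtain ⟨hs2T, -⟩ := mem_evenTree.mp (h.le₂ hs2)
  have hpfix : ∀ {e e' : ℕ} (he : Blk n e) (he' : Blk n e') (hne : e ≠ e') (j : Fin (n / 2))
      {z : Fin n}, InB e' z → z.val / 2 = j.val → ∀ a : Fin n, InB e a → pairSwap j a = a := by
    intro e e' he he' hne j z hz hzj a ha
    apply pairSwap_apply_of_ne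
    intro hc
    have h2' : a.val / 2 ^ 1 = z.val / 2 ^ 1 := by rw [pow_one]; omega
    exact hne (blk_eq_of_inB he he' (inB_congr (by have := he.1; omega) h2' ha) hz)
  -- inside a block away from `e₁`, `s1` is central
  have hcs : ∀ e, Blk n e → ∀ a : Fin n, InB e a →
      ((pairSwap j1 * s1) a).val / 2 = a.val / 2 ∧
        ∀ u : Fin n, InB e u → ((pairSwap j1 * s1) a = a ↔ (pairSwap j1 * s1) u = u) := by
    intro e he
    have hsub : ∀ s : Perm (Fin n), Cent e s → (∀ a, InB e a → (pairSwap j1 * s1) a = s a) →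
        ∀ a : Fin n, InB e a → ((pairSwap j1 * s1) a).val / 2 = a.val / 2 ∧
        ∀ u : Fin n, InB e u → ((pairSwap j1 * s1) a = a ↔ (pairSwap j1 * s1) u = u) := by
      intro s hs hag a ha
      refine ⟨by rw [hag a ha]; exact (hs a ha).1, fun u hu => ?_⟩
      rw [hag a ha, hag u hu]
      exact (hs a ha).2 u hu
    by_cases he1 : e = e₁
    · subst he1
      refine hsub s2⁻¹ (hc1 _ (S₂.inv_mem hs2)) fun a ha => ?_
      have : pairSwap j1 * s1 = pairSwap j2 * s2⁻¹ := by
        rw [eq_mul_inv_iff_mul_eq, mul_assoc, ← heq, ← mul_assoc, pairSwap_self, one_mul]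
      rw [this, Perm.mul_apply]
      exact hpfix h1 h2 hne j2 ha2 rfl _ (inB_stable h1 ((tree n).inv_mem hs2T) ha)
    · have hag : ∀ a, InB e a → (pairSwap j1 * s1) a = s1 a := fun a ha => by
        rw [Perm.mul_apply]
        exact hpfix he h1 he1 j1 ha1 rfl _ (inB_stable he hs1T ha)
      rcases howner e he with hA | hB
      · by_cases he2 : e = e₂
        · subst he2; exact hsub s1 (hc2 s1 hs1) hag
        · refine hsub s2⁻¹ (hA _ (S₂.inv_mem hs2)) fun a ha => ?_
          rw [hag a ha]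
          have hb := inB_stable he ((tree n).inv_mem hs2T) ha
          have h3 := congrArg (fun t : Perm (Fin n) => t (s2⁻¹ a)) heq
          simp only [Perm.mul_apply, papp] at h3
          rw [hpfix he h2 he2 j2 ha2 rfl _ hb, hpfix he h1 he1 j1 ha1 rfl _ hb] at h3
          exact h3.symm
      · exact hsub s1 (hB s1 hs1) hag
  have hQ : QFlip (pairSwap j1 * s1) := by
    intro a ha
    have halt : a.val < 4 * (n / 4) := by
      by_contra hc
      apply ha
      rw [Perm.mul_apply, top_fix hs1T (by omega)]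
      apply pairSwap_apply_of_ne
      have := inB_lt h1 ha1
      simp only [hj1]
      omega
    obtain ⟨e, he, hae⟩ := exists_blk halt
    obtain ⟨p1, p2⟩ := hcs e he a hae
    exact ⟨halt, p1, fun c hc hf => ha ((p2 c (inB_congr he.1 (by norm_num; omega) hae)).mpr hf)⟩
  have := qflip_sign hQ
  rw [map_mul, sign_pairSwap, hs1s] at this
  exact absurd this (by decide)

/-- A single block and no compensating pair: the center has order two. -/
theorem Dec.false_of_single (h : Dec n S₁ S₂) (hn : 8 ≤ n) {e : ℕ} (he : Blk n e)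
    (hall : ∀ a : Fin n, a.val < 2 * (n / 2) → InB e a) : False := by
  have hcen : ∀ z ∈ evenTree n, (∀ g ∈ evenTree n, g * z = z * g) →
      (∀ a : Fin n, (z a).val / 2 = a.val / 2) ∧
      (∀ a b : Fin n, a.val < 2 * (n / 2) → b.val < 2 * (n / 2) → z a = a → z b = b) := by
    intro z hz hzc
    have hzT := (mem_evenTree.mp hz).1
    refine ⟨fun a => ?_, ?_⟩
    · by_contra hne
      have halt : a.val < 2 * (n / 2) := by
        by_contra hc; exact hne (by rw [top_fix hzT (by omega)])
      have hzlt : (z a).val < 2 * (n / 2) := by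
        by_contra hc
        have := top_fix ((tree n).inv_mem hzT) (a := z a) (by omega)
        simp only [Perm.coe_inv, Equiv.symm_apply_apply] at this
        exact hne (by rw [← this])
      obtain ⟨j, hj1, hj2⟩ : ∃ j : Fin (n / 2), j.val ≠ a.val / 2 ∧ j.val ≠ (z a).val / 2 := by
        by_contra hc
        simp only [not_exists, not_and, not_not] at hc
        have h0 := hc ⟨0, by omega⟩
        have h1 := hc ⟨1, by omega⟩
        have h2 := hc ⟨2, by omega⟩
        simp only at h0 h1 h2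
        omega
      set w := pairSwap (⟨(z a).val / 2, by omega⟩ : Fin (n / 2)) * pairSwap j with hw
      have hwa : w a = a := by
        rw [hw, Perm.mul_apply, pairSwap_apply_of_ne (Ne.symm hj1)]
        exact pairSwap_apply_of_ne (Ne.symm hne)
      have := congrArg (fun t : Perm (Fin n) => t a) (hzc w (two_pairSwap_mem _ _))
      simp only [Perm.mul_apply, hwa] at this
      rw [hw, Perm.mul_apply, pairSwap_apply_of_ne (Ne.symm hj2)] at this
      exact pairSwap_apply_ne rfl this
    · intro a b ha hb hfix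
      have h1 := hall a ha
      have h2 := hall b hb
      have hlt : a.val / 2 ^ e < n / 2 ^ e := by
        have := he.2
        unfold InB at h1
        generalize n / 2 ^ e = q at *
        generalize a.val / 2 ^ e = u at *
        omega
      obtain ⟨σ, hσ, hab, -⟩ := exists_supported (a := a) (b := b) (by
        unfold InB at h1 h2; omega) hlt
      obtain ⟨g, hg, hgab⟩ : ∃ g ∈ evenTree n, g a = b := by
        rcases Int.units_eq_one_or (Perm.sign σ) with hs | hs
        · exact ⟨σ, mem_evenTree.mpr ⟨hσ, hs⟩, hab⟩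
        · obtain ⟨j, hj⟩ : ∃ j : Fin (n / 2), j.val ≠ b.val / 2 := by
            by_contra hc
            simp only [not_exists, not_not] at hc
            have h0 := hc ⟨0, by omega⟩
            have h1 := hc ⟨1, by omega⟩
            simp only at h0 h1
            omega
          refine ⟨pairSwap j * σ, mem_evenTree.mpr ⟨(tree n).mul_mem (pairSwap_mem_tree _) hσ,
            by rw [map_mul, sign_pairSwap, hs]; rfl⟩, ?_⟩
          rw [Perm.mul_apply, hab]
          exact pairSwap_apply_of_ne (Ne.symm hj)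
      have := congrArg (fun t : Perm (Fin n) => t a) (hzc g hg)
      simp only [Perm.mul_apply, hfix, hgab] at this
      exact this.symm
  have get : ∀ {A B : Subgroup (Perm (Fin n))}, Dec n A B →
      ∃ z ∈ A, z ≠ 1 ∧ ∀ g ∈ evenTree n, g * z = z * g := by
    intro A B hd
    have hP : IsPGroup 2 A := (isPGroup_tree n).to_le (hd.le₁.trans inf_le_left)
    haveI : Nontrivial A := (Subgroup.nontrivial_iff_ne_bot A).mpr hd.ne₁
    haveI : Fact (Nat.Prime 2) := ⟨Nat.prime_two⟩
    haveI := hP.center_nontrivial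
    obtain ⟨⟨⟨z, hzA⟩, hzc⟩, hz1⟩ := exists_ne (1 : Subgroup.center A)
    refine ⟨z, hzA, fun e => hz1 (Subtype.ext (Subtype.ext e)), fun g hg => ?_⟩
    obtain ⟨u, hu, v, hv, rfl⟩ := hd.ex g hg
    have c1 : u * z = z * u := congrArg Subtype.val (Subgroup.mem_center_iff.mp hzc ⟨u, hu⟩)
    rw [mul_assoc, ← hd.comm z hzA v hv, ← mul_assoc, c1, mul_assoc]
  obtain ⟨z1, hz1, hne1, hc1⟩ := get h
  obtain ⟨z2, hz2, hne2, hc2⟩ := get h.symm
  obtain ⟨p1, q1⟩ := hcen z1 (h.le₁ hz1) hc1
  obtain ⟨p2, q2⟩ := hcen z2 (h.le₂ hz2) hc2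
  have hmove : ∀ z : Perm (Fin n), z ∈ tree n → z ≠ 1 →
      (∀ a b : Fin n, a.val < 2 * (n / 2) → b.val < 2 * (n / 2) → z a = a → z b = b) →
      ∀ a : Fin n, a.val < 2 * (n / 2) → z a ≠ a := by
    intro z hz hne hq a ha hfix
    apply hne
    refine Equiv.ext fun b => ?_
    by_cases hb : b.val < 2 * (n / 2)
    · simpa using hq a b ha hb hfix
    · simpa using top_fix hz (a := b) (by omega)
  have heq : z1 = z2 := by
    have t1 := (mem_evenTree.mp (h.le₁ hz1)).1
    have t2 := (mem_evenTree.mp (h.le₂ hz2)).1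
    refine Equiv.ext fun a => ?_
    by_cases ha : a.val < 2 * (n / 2)
    · exact pair_eq (p1 a).symm (p2 a).symm (hmove z1 t1 hne1 q1 a ha) (hmove z2 t2 hne2 q2 a ha)
    · rw [top_fix t1 (by omega), top_fix t2 (by omega)]
  exact hne1 (h.disj z1 hz1 (heq ▸ hz2))

/-- The indecomposable cases. -/
theorem indecomposable (h : Dec n S₁ S₂) (hn : 6 ≤ n)
    (hc : (n % 4 ≤ 1) ∨ ∃ r : ℕ, 4 * (n / 4) = 2 ^ r) : False := by
  have hex : ∀ e, Blk n e → ∃ a : Fin n, InB e a := by
    intro e he
    have hp := Nat.two_pow_pos e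
    have h1 : (n / 2 ^ e - 1) * 2 ^ e < n := by
      have h2 := Nat.div_mul_le_self n (2 ^ e)
      have h3 : (n / 2 ^ e - 1) * 2 ^ e < n / 2 ^ e * 2 ^ e :=
        Nat.mul_lt_mul_of_pos_right (by
          have := he.2
          generalize n / 2 ^ e = q at *
          omega) hp
      omega
    exact ⟨⟨_, h1⟩, by unfold InB; simp only; rw [Nat.mul_div_cancel _ hp]⟩
  by_cases hcomp : ∀ e, Blk n e → ∃ jc : Fin (n / 2), ∀ a : Fin n, a.val / 2 = jc.val → ¬ InB e a
  · have howner : ∀ e, Blk n e → (∀ b ∈ S₂, Cent e b) ∨ ∀ b ∈ S₁, Cent e b := by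
      intro e he
      obtain ⟨jc, hjc⟩ := hcomp e he
      obtain ⟨a, ha⟩ := hex e he
      exact h.cent_dichotomy he hjc ha
    by_cases hA : ∀ e, Blk n e → ∀ b ∈ S₂, Cent e b
    · exact h.false_of_all_cent hn hA
    by_cases hB : ∀ e, Blk n e → ∀ b ∈ S₁, Cent e b
    · exact h.symm.false_of_all_cent hn hB
    simp only [not_forall, exists_prop] at hA hB
    obtain ⟨e₂, he2, b2, hb2, hn2⟩ := hA
    obtain ⟨e₁, he1, b1, hb1, hn1⟩ := hB
    have hc2 : ∀ b ∈ S₁, Cent e₂ b := (howner e₂ he2).resolve_left fun hh => hn2 (hh b2 hb2)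
    have hc1 : ∀ b ∈ S₂, Cent e₁ b := (howner e₁ he1).resolve_right fun hh => hn1 (hh b1 hb1)
    have hne : e₁ ≠ e₂ := fun e => hn1 (e ▸ hc2 b1 hb1)
    have h01 : n % 4 ≤ 1 := by
      rcases hc with hc | ⟨r, hr⟩
      · exact hc
      · exact absurd ((blk_unique hr he1).trans (blk_unique hr he2).symm) hne
    obtain ⟨a1, ha1⟩ := hex e₁ he1
    obtain ⟨a2, ha2⟩ := hex e₂ he2
    exact h.false_of_mixed h01 howner he1 he2 hne hc1 hc2 ha1 ha2
  · simp only [not_forall, not_exists, exists_prop, not_not] at hcomp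
    obtain ⟨e, he, hall⟩ := hcomp
    have hall' : ∀ a : Fin n, a.val < 2 * (n / 2) → InB e a := by
      intro a ha
      obtain ⟨b, hb1, hb2⟩ := hall ⟨a.val / 2, by omega⟩
      exact inB_congr (k := 1) (by have := he.1; omega) (by simpa using hb1) hb2
    refine h.false_of_single ?_ he hall'
    by_contra h8
    have h2 := inB_lt he (hall' ⟨2 * (n / 2) - 1, by omega⟩ (by simp only; omega))
    simp only at h2
    omega

/-- The decomposable cases. -/
theorem exists_dec (hn : 6 ≤ n) (h23 : n % 4 = 2 ∨ n % 4 = 3)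
    (hpow : ∀ r : ℕ, 4 * (n / 4) ≠ 2 ^ r) :
    ∃ T₁ T₂ : Subgroup (Perm (Fin n)), Dec n T₁ T₂ := by
  classical
  set E := Nat.log 2 n with hE
  have hlo : 2 ^ E ≤ n := Nat.pow_log_le_self 2 (by omega)
  have hhi : n < 2 ^ (E + 1) := Nat.lt_pow_succ_log_self (by norm_num) n
  rw [pow_succ] at hhi
  have hE2 : 2 ≤ E := Nat.le_log_of_pow_le (by norm_num) (by norm_num; omega)
  obtain ⟨k, hk⟩ : ∃ k, 2 ^ E = 4 * k := ⟨2 ^ (E - 2), by
    rw [show E = 2 + (E - 2) by omega, pow_add]; simp⟩
  have hm : 2 ^ E < 4 * (n / 4) := lt_of_le_of_ne (by omega) (Ne.symm (hpow E))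
  set j0 : Fin (n / 2) := ⟨n / 2 - 1, by omega⟩ with hj0
  have hone : n / 2 ^ E = 1 := Nat.div_eq_of_lt_le (by omega) (by omega)
  have hstab : ∀ σ ∈ tree n, ∀ a : Fin n,
      ((σ a).val < 2 ^ E ↔ a.val < 2 ^ E) ∧
      ((σ a).val < 4 * (n / 4) ↔ a.val < 4 * (n / 4)) := by
    intro σ hσ a
    refine ⟨?_, ?_⟩
    · have h1 := last_class (mem_tree.mp hσ E) a
      rw [hone] at h1
      have e : ∀ x : Fin n, x.val / 2 ^ E = 1 ↔ ¬ x.val < 2 ^ E := fun x => by
        refine ⟨fun h hlt => by rw [Nat.div_eq_of_lt hlt] at h; omega, fun h => ?_⟩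
        exact Nat.div_eq_of_lt_le (by omega) (by have := x.isLt; omega)
      rw [e, e] at h1
      exact not_iff_not.mp h1
    · have h1 := last_class (mem_tree.mp hσ 2) a
      norm_num at h1
      have := a.isLt
      have := (σ a).isLt
      omega
  have hj0fix : ∀ a : Fin n, a.val < 4 * (n / 4) → pairSwap j0 a = a :=
    fun a ha => pairSwap_apply_of_ne (by simp only [hj0]; omega)
  let T₁ : Subgroup (Perm (Fin n)) :=
    evenTree n ⊓ fixingSubgroup (Perm (Fin n)) {a : Fin n | 2 ^ E ≤ a.val ∧ a.val < 4 * (n / 4)}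
  let T₂ : Subgroup (Perm (Fin n)) :=
    evenTree n ⊓ fixingSubgroup (Perm (Fin n)) {a : Fin n | a.val < 2 ^ E}
  have m1 : ∀ σ, σ ∈ T₁ ↔ σ ∈ evenTree n ∧
      ∀ a : Fin n, 2 ^ E ≤ a.val → a.val < 4 * (n / 4) → σ a = a := by
    intro σ
    simp only [T₁, Subgroup.mem_inf, mem_fixingSubgroup_iff, Set.mem_setOf_eq, Perm.smul_def, and_imp]
  have m2 : ∀ σ, σ ∈ T₂ ↔ σ ∈ evenTree n ∧ ∀ a : Fin n, a.val < 2 ^ E → σ a = a := by
    intro σ
    simp only [T₂, Subgroup.mem_inf, mem_fixingSubgroup_iff, Set.mem_setOf_eq, Perm.smul_def]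
  refine ⟨T₁, T₂, ⟨inf_le_left, inf_le_left, ?_, ?_, ?_, ?_, ?_⟩⟩
  · intro s hs t ht
    obtain ⟨hsW, hsf⟩ := (m1 s).mp hs
    obtain ⟨htW, htf⟩ := (m2 t).mp ht
    have hsT := (mem_evenTree.mp hsW).1
    have htT := (mem_evenTree.mp htW).1
    refine Equiv.ext fun a => ?_
    rw [Perm.mul_apply, Perm.mul_apply]
    by_cases h1 : a.val < 2 ^ E
    · rw [htf a h1, htf (s a) ((hstab s hsT a).1.mpr h1)]
    by_cases h2 : a.val < 4 * (n / 4)
    · rw [hsf a (by omega) h2, hsf (t a) (by have := (hstab t htT a).1; omega)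
        ((hstab t htT a).2.mpr h2)]
    have hs2 := top_pair hsT (a := a) (by omega)
    have ht2 := top_pair htT (a := a) (by omega)
    by_cases h3 : s a = a
    · rw [h3]
      by_cases h4 : t a = a
      · rw [h4, h3]
      · by_contra hne
        have h5 := top_pair hsT (a := t a) (by have := (hstab t htT a).2; omega)
        have h6 : s (t a) ≠ a := fun e' => h4 (s.injective (e'.trans h3.symm))
        exact hne (pair_eq ht2.symm (ht2.symm.trans h5.symm) h4 h6).symm
    · by_cases h4 : t a = a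
      · rw [h4]
        by_contra hne
        have h5 := top_pair htT (a := s a) (by have := (hstab s hsT a).2; omega)
        have h6 : t (s a) ≠ a := fun e' => h3 (t.injective (e'.trans h4.symm))
        exact hne (pair_eq hs2.symm (hs2.symm.trans h5.symm) h3 h6)
      · have hst : s a = t a := pair_eq hs2.symm ht2.symm h3 h4
        rw [hst]
        have h5 := top_pair htT (a := t a) (by have := (hstab t htT a).2; omega)
        have h6 := top_pair hsT (a := t a) (by have := (hstab t htT a).2; omega)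
        have h7 : t (t a) ≠ t a := fun e' => h4 (t.injective e')
        have h8 : s (t a) ≠ t a := by rw [← hst]; exact fun e' => h3 (s.injective e')
        exact pair_eq (a := t a) h6.symm h5.symm h8 h7
  · intro w hw
    obtain ⟨hwT, hws⟩ := mem_evenTree.mp hw
    have hst : ∀ x : Fin n, (w x).val / 2 ^ E = 0 ↔ x.val / 2 ^ E = 0 := fun x => by
      simp only [Nat.div_eq_zero_iff, Nat.pow_eq_zero, OfNat.ofNat_ne_zero, false_and, false_or]
      exact (hstab w hwT x).1
    set ρ := Perm.ofSubtype (w.subtypePerm (p := fun x : Fin n => x.val / 2 ^ E = 0) hst) with hρ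
    have hρT : ρ ∈ tree n := restr_mem hwT hst
    have hin : ∀ x : Fin n, x.val < 2 ^ E → ρ x = w x := fun x hx => by
      rw [hρ, Perm.ofSubtype_apply_of_mem (p := fun x : Fin n => x.val / 2 ^ E = 0) _ (a := x)
        (Nat.div_eq_of_lt hx)]
      rfl
    have hout : ∀ x : Fin n, 2 ^ E ≤ x.val → ρ x = x := fun x hx => by
      rw [hρ, Perm.ofSubtype_apply_of_not_mem (p := fun x : Fin n => x.val / 2 ^ E = 0) _ (a := x)]
      have := Nat.div_pos hx (Nat.two_pow_pos E)
      omega
    obtain ⟨u, huW, hu1, hu2⟩ : ∃ u ∈ evenTree n,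
        (∀ a : Fin n, 2 ^ E ≤ a.val → a.val < 4 * (n / 4) → u a = a) ∧
        ∀ a : Fin n, a.val < 2 ^ E → u a = w a := by
      rcases Int.units_eq_one_or (Perm.sign ρ) with hs | hs
      · exact ⟨ρ, mem_evenTree.mpr ⟨hρT, hs⟩, fun a ha _ => hout a ha, hin⟩
      · refine ⟨pairSwap j0 * ρ, mem_evenTree.mpr ⟨(tree n).mul_mem (pairSwap_mem_tree _) hρT,
          by rw [map_mul, sign_pairSwap, hs]; rfl⟩, fun a ha hb => ?_, fun a ha => ?_⟩
        · rw [Perm.mul_apply, hout a ha]; exact hj0fix a hb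
        · rw [Perm.mul_apply, hin a ha]
          exact hj0fix _ (lt_trans ((hstab w hwT a).1.mpr ha) hm)
    refine ⟨u, (m1 u).mpr ⟨huW, hu1⟩, u⁻¹ * w, (m2 _).mpr
      ⟨(evenTree n).mul_mem ((evenTree n).inv_mem huW) hw, fun a ha => ?_⟩, by group⟩
    rw [Perm.mul_apply, ← hu2 a ha]
    simp
  · intro σ h1 h2
    obtain ⟨hσW, hf1⟩ := (m1 σ).mp h1
    obtain ⟨-, hf2⟩ := (m2 σ).mp h2
    obtain ⟨hσT, hσs⟩ := mem_evenTree.mp hσW
    have hlow : ∀ a : Fin n, a.val < 4 * (n / 4) → σ a = a := fun a ha => by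
      by_cases h : a.val < 2 ^ E
      · exact hf2 a h
      · exact hf1 a (by omega) ha
    by_cases hfix : σ ⟨2 * j0.val, by omega⟩ = ⟨2 * j0.val, by omega⟩
    · refine Equiv.ext fun a => ?_
      by_cases h : a.val < 4 * (n / 4)
      · simpa using hlow a h
      by_cases h' : a.val / 2 = j0.val
      · by_contra hne
        simp only [Perm.one_apply] at hne
        have h5 := top_pair hσT (a := a) (by omega)
        by_cases ha0 : a = ⟨2 * j0.val, by omega⟩
        · exact hne (ha0 ▸ hfix)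
        · have := pair_eq (a := a) h5.symm (b := σ a)
            (c := ⟨2 * j0.val, by omega⟩) (by simp only; omega) hne (Ne.symm ha0)
          exact ha0 (σ.injective (this.trans hfix.symm))
      · simpa using top_fix hσT (a := a) (by simp only [hj0] at h'; have := a.isLt; omega)
    · exfalso
      have heq : σ = pairSwap j0 := by
        refine Equiv.ext fun a => ?_
        by_cases h : a.val < 4 * (n / 4)
        · rw [hlow a h, hj0fix a h]
        by_cases h' : a.val / 2 = j0.val
        · have h5 := top_pair hσT (a := a) (by omega)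
          refine pair_eq (a := a) h5.symm (pairSwap_div j0 a).symm ?_ (pairSwap_apply_ne h')
          intro he
          by_cases ha0 : a = ⟨2 * j0.val, by omega⟩
          · exact hfix (ha0 ▸ he)
          · have h6 := top_pair hσT (a := (⟨2 * j0.val, by omega⟩ : Fin n))
              (by simp only [hj0]; omega)
            have h7 := pair_eq h6.symm (b := σ ⟨2 * j0.val, by omega⟩) (c := a)
              (by simp only; omega) hfix ha0
            exact hfix (by rw [h7]; exact σ.injective (he.trans h7.symm))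
        · rw [top_fix hσT (a := a) (by simp only [hj0] at h'; have := a.isLt; omega),
            pairSwap_apply_of_ne h']
      rw [heq, sign_pairSwap] at hσs
      exact absurd hσs (by decide)
  · intro hbot
    have hmem : pairSwap (⟨0, by omega⟩ : Fin (n / 2)) * pairSwap j0 ∈ T₁ := by
      refine (m1 _).mpr ⟨two_pairSwap_mem _ _, fun a ha hb => ?_⟩
      rw [Perm.mul_apply, hj0fix a hb]
      exact pairSwap_apply_of_ne (by simp only; omega)
    rw [hbot, Subgroup.mem_bot] at hmem
    have := congrArg (fun t : Perm (Fin n) => t ⟨0, by omega⟩) hmem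
    simp only [Perm.mul_apply, Perm.one_apply] at this
    rw [hj0fix _ (by simp only; omega)] at this
    exact pairSwap_apply_ne (by simp) this
  · intro hbot
    have hmem : pairSwap (⟨2 * k, by omega⟩ : Fin (n / 2)) * pairSwap j0 ∈ T₂ := by
      refine (m2 _).mpr ⟨two_pairSwap_mem _ _, fun a ha => ?_⟩
      rw [Perm.mul_apply, hj0fix a (by omega)]
      exact pairSwap_apply_of_ne (by simp only; omega)
    rw [hbot, Subgroup.mem_bot] at hmem
    have := congrArg (fun t : Perm (Fin n) => t ⟨4 * k, by omega⟩) hmem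
    simp only [Perm.mul_apply, Perm.one_apply] at this
    rw [hj0fix _ (by simp only; omega)] at this
    exact pairSwap_apply_ne (by simp only; omega) this

/-- Products exhaust a join of two subgroups commuting elementwise. -/
theorem exists_mul_of_mem_sup {G : Type*} [Group G] {A B : Subgroup G}
    (hc : ∀ a ∈ A, ∀ b ∈ B, a * b = b * a) {w : G} (hw : w ∈ A ⊔ B) :
    ∃ a ∈ A, ∃ b ∈ B, w = a * b := by
  rw [Subgroup.sup_eq_closure] at hw
  induction hw using Subgroup.closure_induction with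
  | mem x hx =>
    rcases hx with h | h
    · exact ⟨x, h, 1, B.one_mem, by simp⟩
    · exact ⟨1, A.one_mem, x, h, by simp⟩
  | one => exact ⟨1, A.one_mem, 1, B.one_mem, by simp⟩
  | mul x y _ _ hx hy =>
    obtain ⟨a, ha, b, hb, rfl⟩ := hx
    obtain ⟨c, hc', d, hd, rfl⟩ := hy
    refine ⟨a * c, A.mul_mem ha hc', b * d, B.mul_mem hb hd, ?_⟩
    rw [mul_assoc a b, ← mul_assoc b c d, ← hc c hc' b hb]
    group
  | inv x _ hx =>
    obtain ⟨a, ha, b, hb, rfl⟩ := hx
    refine ⟨a⁻¹, A.inv_mem ha, b⁻¹, B.inv_mem hb, ?_⟩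
    rw [mul_inv_rev, ← hc a⁻¹ (A.inv_mem ha) b⁻¹ (B.inv_mem hb)]

end CfsgLib.SylowAltDec
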