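import Cfsg.Agent.SylowAlt.Normalizer
import Mathlib.GroupTheory.Perm.Cycle.Type

/-!
A 2-element of `S_n` lies in only one Sylow 2-subgroup iff it has at most two fixed points and
its non-trivial cycles have different lengths.
-/

set_option autoImplicit false

namespace CfsgLib.SylowAlt

open Equiv

variable {n : ℕ}

/-- The length of the orbit of a point. -/
noncomputable def per (x : Perm (Fin n)) (a : Fin n) : ℕ := orderOf (x.cycleOf a)

/-- At most two fixed points, and moved points with the same orbit length share their orbit. -/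
def Sep (x : Perm (Fin n)) : Prop :=
  (∀ a b c : Fin n, x a = a → x b = b → x c = c → a = b ∨ b = c ∨ a = c) ∧
    ∀ a b : Fin n, x a ≠ a → x b ≠ b → per x a = per x b → x.SameCycle a b

theorem pow_apply_eq_self_iff {x : Perm (Fin n)} {a : Fin n} (k : ℕ) :
    (x ^ k) a = a ↔ per x a ∣ k := by
  classical
  by_cases ha : x a = a
  · have h1 : (x ^ k) a = a := by
      induction k with
      | zero => rfl
      | succ k ih => rw [pow_succ, Perm.mul_apply, ha, ih]
    simp [per, (Perm.cycleOf_eq_one_iff x).2 ha, h1]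
  · rw [per, orderOf_dvd_iff_pow_eq_one, (x.isCycle_cycleOf ha).pow_eq_one_iff'
      (by rw [(Perm.SameCycle.refl x a).cycleOf_apply]; exact ha), Perm.cycleOf_pow_apply_self]

theorem exists_per_eq {x : Perm (Fin n)} (hx : ∃ k, x ^ 2 ^ k = 1) (a : Fin n) :
    ∃ e, per x a = 2 ^ e := by
  obtain ⟨k, hk⟩ := hx
  have h : per x a ∣ 2 ^ k := (pow_apply_eq_self_iff _).1 (by rw [hk]; rfl)
  obtain ⟨e, -, he⟩ := (Nat.dvd_prime_pow Nat.prime_two).1 h
  exact ⟨e, he⟩

theorem per_eq_one_iff {x : Perm (Fin n)} {a : Fin n} : per x a = 1 ↔ x a = a := by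
  rw [← Nat.dvd_one, ← pow_apply_eq_self_iff, pow_one]

/-- `a` and `b` are both fixed, or exchanged by a power of `x`. -/
def Mate (x : Perm (Fin n)) (a b : Fin n) : Prop :=
  a = b ∨ (x a = a ∧ x b = b) ∨ ∃ k : ℕ, (x ^ k) a = b ∧ (x ^ k) b = a

/-- Exchanges of two partners: the exchanging powers differ by a multiple of the orbit length. -/
theorem mate_unique {x : Perm (Fin n)} (hx : ∃ k, x ^ 2 ^ k = 1) {a b b' : Fin n} {j k : ℕ}
    (hj : (x ^ j) a = b) (hj' : (x ^ j) b = a) (hk : (x ^ k) a = b') (hk' : (x ^ k) b' = a)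
    (hb : b ≠ a) (hb' : b' ≠ a) : b' = b := by
  obtain ⟨e, he⟩ := exists_per_eq hx a
  have h2 : ∀ {i : ℕ} {c : Fin n}, (x ^ i) a = c → (x ^ i) c = a → c ≠ a →
      per x a ∣ 2 * i ∧ ¬ per x a ∣ i := by
    intro i c h1 h1' hc
    refine ⟨(pow_apply_eq_self_iff _).1 (by rw [two_mul, pow_add, Perm.mul_apply, h1, h1']),
      fun hd => hc ?_⟩
    rw [← h1]
    exact (pow_apply_eq_self_iff i).2 hd
  obtain ⟨hj1, hj2⟩ := h2 hj hj' hb
  obtain ⟨hk1, hk2⟩ := h2 hk hk' hb'
  cases e with
  | zero => exact absurd (by rw [he, pow_zero]; exact one_dvd _) hj2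
  | succ e =>
    rw [he, pow_succ] at hj1 hj2 hk1 hk2
    rw [mul_comm 2 j] at hj1
    rw [mul_comm 2 k] at hk1
    obtain ⟨u, hu⟩ := Nat.dvd_of_mul_dvd_mul_right two_pos hj1
    obtain ⟨v, hv⟩ := Nat.dvd_of_mul_dvd_mul_right two_pos hk1
    have hodd : ∀ {i w : ℕ}, i = 2 ^ e * w → ¬ 2 ^ e * 2 ∣ i → Odd w := fun {i w} hi hn => by
      rw [← Nat.not_even_iff_odd]
      rintro ⟨c, hc⟩
      exact hn ⟨c, by rw [hi, hc]; ring⟩
    obtain ⟨c, hc⟩ := hodd hu hj2
    obtain ⟨c', hc'⟩ := hodd hv hk2
    have hred : ∀ c : ℕ, (x ^ (2 ^ e * (2 * c + 1))) a = (x ^ (2 ^ e)) a := by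
      intro c
      rw [show 2 ^ e * (2 * c + 1) = 2 ^ e + 2 ^ (e + 1) * c by ring, pow_add, Perm.mul_apply,
        (pow_apply_eq_self_iff (2 ^ (e + 1) * c)).2 (by rw [he]; exact dvd_mul_right _ _)]
    rw [← hj, ← hk, hu, hv, hc, hc', hred, hred]

theorem pow_levelStab {x : Perm (Fin n)} (hx : x ∈ tree n) (k : ℕ) (a b : Fin n) :
    ((x ^ k) a).val / 2 = ((x ^ k) b).val / 2 ↔ a.val / 2 = b.val / 2 := by
  have h := tree_le_levelStab 1 ((tree n).pow_mem hx k) a b
  simpa using h

/-- In the tree the pairs are determined by the element. -/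
theorem mate_iff {x : Perm (Fin n)} (hx : x ∈ tree n) (h2 : ∃ k, x ^ 2 ^ k = 1) (hs : Sep x)
    (a b : Fin n) : a.val / 2 = b.val / 2 ↔ Mate x a b := by
  -- two partners
  have hpair : ∀ a b : Fin n, a.val / 2 = b.val / 2 → a ≠ b →
      (x a = a ∧ x b = b) ∨ ∃ k : ℕ, (x ^ k) a = b ∧ (x ^ k) b = a := by
    intro a b hab hne
    have hthird : ∀ c : Fin n, c.val / 2 = a.val / 2 → c = a ∨ c = b := fun c hc => by
      have h1 : a.val ≠ b.val := fun e => hne (Fin.ext e)
      rcases (show c.val = a.val ∨ c.val = b.val by omega) with e | e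
      exacts [Or.inl (Fin.ext e), Or.inr (Fin.ext e)]
    have hstab : ∀ (c d : Fin n), c.val / 2 = d.val / 2 → c ≠ d → ∀ k : ℕ, (x ^ k) c = c →
        (x ^ k) d = d := by
      intro c d hcd hne k hk
      have h1 := (pow_levelStab hx k c d).2 hcd
      rw [hk] at h1
      have h2 : (x ^ k) d ≠ c := fun e => hne ((x ^ k).injective (hk.trans e.symm))
      apply Fin.ext
      have h3 : c.val ≠ d.val := fun e => hne (Fin.ext e)
      have h4 : ((x ^ k) d).val ≠ c.val := fun e => h2 (Fin.ext e)
      omega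
    by_cases ha : x a = a
    · exact Or.inl ⟨ha, by simpa using hstab a b hab hne 1 (by simpa using ha)⟩
    by_cases hb : x b = b
    · exact absurd (by simpa using hstab b a hab.symm hne.symm 1 (by simpa using hb)) ha
    right
    have hper : per x a = per x b := Nat.dvd_antisymm
      ((pow_apply_eq_self_iff _).1 (hstab b a hab.symm hne.symm _ ((pow_apply_eq_self_iff _).2 dvd_rfl)))
      ((pow_apply_eq_self_iff _).1 (hstab a b hab hne _ ((pow_apply_eq_self_iff _).2 dvd_rfl)))
    obtain ⟨k, hk⟩ := (hs.2 a b ha hb hper).exists_nat_pow_eq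
    refine ⟨k, hk, ?_⟩
    have h1 := (pow_levelStab hx k a b).2 hab
    rw [hk] at h1
    rcases hthird ((x ^ k) b) (by omega) with e | e
    · exact e
    · exact absurd ((x ^ k).injective (hk.trans e.symm)) hne
  constructor
  · intro hab
    by_cases hne : a = b
    · exact Or.inl hne
    · exact Or.inr (hpair a b hab hne)
  · rintro (rfl | h)
    · rfl
    by_cases hne : a = b
    · rw [hne]
    -- a partner of a point
    have hex : ∀ c : Fin n, c.val < 2 * (n / 2) → ∃ d : Fin n, d ≠ c ∧ c.val / 2 = d.val / 2 :=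
      fun c hc => by
        refine ⟨⟨2 * (c.val / 2) + (1 - c.val % 2), by omega⟩, fun e => ?_, ?_⟩
        · have := congrArg Fin.val e
          simp only at this
          omega
        · simp only
          omega
    have hlastfix : ∀ c : Fin n, ¬ c.val < 2 * (n / 2) → x c = c := fun c hc => by
      have h1 := (last_class (tree_le_levelStab 1 hx) c).2 (by have := c.isLt; omega)
      have h2 := (x c).isLt
      apply Fin.ext
      have h3 := c.isLt
      omega
    rcases h with ⟨ha, hb⟩ | ⟨k, hk, hk'⟩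
    · by_cases hal : a.val < 2 * (n / 2)
      · obtain ⟨d, hda, hd⟩ := hex a hal
        rcases hpair a d hd hda.symm with ⟨-, hdf⟩ | ⟨j, hj, -⟩
        · rcases hs.1 a b d ha hb hdf with e | e | e
          · exact absurd e hne
          · rw [e]; exact hd
          · exact absurd e.symm hda
        · exfalso
          refine hda ?_
          rw [← hj]
          exact (pow_apply_eq_self_iff j).2 (by rw [per_eq_one_iff.2 ha]; exact one_dvd _)
      · by_cases hbl : b.val < 2 * (n / 2)
        · obtain ⟨d, hdb, hd⟩ := hex b hbl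
          rcases hpair b d hd hdb.symm with ⟨-, hdf⟩ | ⟨j, hj, -⟩
          · rcases hs.1 b a d hb ha hdf with e | e | e
            · exact absurd e.symm hne
            · rw [e]; exact hd.symm
            · exact absurd e.symm hdb
          · exfalso
            refine hdb ?_
            rw [← hj]
            exact (pow_apply_eq_self_iff j).2 (by rw [per_eq_one_iff.2 hb]; exact one_dvd _)
        · have := a.isLt
          have := b.isLt
          omega
    · have haf : x a ≠ a := fun e => hne (by
        rw [← hk]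
        exact ((pow_apply_eq_self_iff k).2 (by rw [per_eq_one_iff.2 e]; exact one_dvd _)).symm)
      have hal : a.val < 2 * (n / 2) := by
        by_contra hc
        exact haf (hlastfix a hc)
      obtain ⟨d, hda, hd⟩ := hex a hal
      rcases hpair a d hd hda.symm with ⟨e, -⟩ | ⟨j, hj, hj'⟩
      · exact absurd e haf
      · rw [mate_unique h2 hj hj' hk hk' hda (Ne.symm hne)]
        exact hd

theorem conj_pow_apply (c x : Perm (Fin n)) (k : ℕ) (a : Fin n) :
    ((c * x * c⁻¹) ^ k) (c a) = c ((x ^ k) a) := by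
  rw [conj_pow]
  simp

theorem per_conj (c x : Perm (Fin n)) (a : Fin n) : per (c * x * c⁻¹) (c a) = per x a := by
  have key : ∀ k, per (c * x * c⁻¹) (c a) ∣ k ↔ per x a ∣ k := fun k => by
    rw [← pow_apply_eq_self_iff, ← pow_apply_eq_self_iff, conj_pow_apply]
    exact c.injective.eq_iff
  exact Nat.dvd_antisymm ((key _).2 dvd_rfl) ((key _).1 dvd_rfl)

theorem sep_conj {x : Perm (Fin n)} (hs : Sep x) (c : Perm (Fin n)) : Sep (c * x * c⁻¹) := by
  have hf : ∀ a, (c * x * c⁻¹) (c a) = c a ↔ x a = a := fun a => by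
    rw [← per_eq_one_iff, per_conj, per_eq_one_iff]
  refine ⟨fun a b d ha hb hd => ?_, fun a b ha hb h => ?_⟩
  · obtain ⟨a, rfl⟩ := c.surjective a
    obtain ⟨b, rfl⟩ := c.surjective b
    obtain ⟨d, rfl⟩ := c.surjective d
    rcases hs.1 a b d ((hf a).1 ha) ((hf b).1 hb) ((hf d).1 hd) with e | e | e <;> simp [e]
  · obtain ⟨a, rfl⟩ := c.surjective a
    obtain ⟨b, rfl⟩ := c.surjective b
    rw [per_conj, per_conj] at h
    obtain ⟨k, hk⟩ := (hs.2 a b (fun e => ha ((hf a).2 e)) (fun e => hb ((hf b).2 e)) h).exists_nat_pow_eq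
    exact ⟨(k : ℤ), by rw [zpow_natCast, conj_pow_apply, hk]⟩

theorem mate_conj {x : Perm (Fin n)} (c : Perm (Fin n)) (a b : Fin n) :
    Mate (c * x * c⁻¹) (c a) (c b) ↔ Mate x a b := by
  simp only [Mate, conj_pow_apply, c.injective.eq_iff]
  rw [← per_eq_one_iff, per_conj, per_eq_one_iff, ← per_eq_one_iff (x := c * x * c⁻¹), per_conj,
    per_eq_one_iff]

/-- The permutation of the pairs induced by a member of the first level stabiliser. -/
theorem exists_half {σ : Perm (Fin n)} (hσ : σ ∈ levelStab n 1) :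
    ∃ τ : Perm (Fin (n / 2)), ∀ a : Fin n, (σ a).val / 2 = extNat τ (a.val / 2) := by
  have hlast : ∀ a : Fin n, (σ a).val < 2 * (n / 2) ↔ a.val < 2 * (n / 2) := by
    intro a
    have := last_class hσ a
    simp only [pow_one] at this
    have := (σ a).isLt
    omega
  let g : Fin (n / 2) → Fin (n / 2) := fun b =>
    ⟨(σ ⟨2 * b.val, by omega⟩).val / 2, by
      have := (hlast ⟨2 * b.val, by omega⟩).mpr (by simp only; omega); omega⟩
  have hg : Function.Injective g := by
    intro b c e
    have h := (hσ ⟨2 * b.val, by omega⟩ ⟨2 * c.val, by omega⟩).mp (by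
      simpa using congrArg Fin.val e)
    apply Fin.ext
    simp only [pow_one] at h
    omega
  refine ⟨Equiv.ofBijective g (Finite.injective_iff_bijective.mp hg), fun a => ?_⟩
  unfold extNat
  split_ifs with h
  · have h1 := (hσ a ⟨2 * (a.val / 2), by omega⟩).mpr (by simp only [pow_one]; omega)
    simpa using h1
  · have := hlast a
    have := (σ a).isLt
    omega

theorem extNat_mul {m : ℕ} (σ τ : Perm (Fin m)) (b : ℕ) :
    extNat (σ * τ) b = extNat σ (extNat τ b) := by
  unfold extNat
  split_ifs with h h' h'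
  · simp
  · exact absurd (τ ⟨b, h⟩).isLt h'
  · rfl

theorem half_unique {τ τ' : Perm (Fin (n / 2))}
    (h : ∀ a : Fin n, extNat τ (a.val / 2) = extNat τ' (a.val / 2)) : τ = τ' := by
  refine Equiv.ext fun b => Fin.ext ?_
  have h1 := h ⟨2 * b.val, by omega⟩
  simpa [extNat, b.isLt] using h1

theorem half_mem_tree {σ : Perm (Fin n)} (hσ : σ ∈ tree n) {τ : Perm (Fin (n / 2))}
    (hτ : ∀ a : Fin n, (σ a).val / 2 = extNat τ (a.val / 2)) : τ ∈ tree (n / 2) := by
  rw [mem_tree]
  intro i b c
  have hb := hτ ⟨2 * b.val, by omega⟩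
  have hc := hτ ⟨2 * c.val, by omega⟩
  simp only [extNat, Nat.mul_div_cancel_left _ two_pos, b.isLt, c.isLt, dif_pos, Fin.eta] at hb hc
  have h := tree_le_levelStab (i + 1) hσ ⟨2 * b.val, by omega⟩ ⟨2 * c.val, by omega⟩
  rw [pow_succ', ← Nat.div_div_eq_div_mul, ← Nat.div_div_eq_div_mul, ← Nat.div_div_eq_div_mul,
    ← Nat.div_div_eq_div_mul, hb, hc] at h
  simpa using h

/-- An element separated in this way determines the tree. -/
theorem mem_tree_of_sep : ∀ (n : ℕ) (x c : Perm (Fin n)), x ∈ tree n → c * x * c⁻¹ ∈ tree n →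
    (∃ k, x ^ 2 ^ k = 1) → Sep x → c ∈ tree n := by
  intro n
  induction n using Nat.strong_induction_on with
  | _ n IH =>
  intro x c hx hx' h2 hs
  rcases Nat.lt_or_ge n 2 with hn | hn
  · rw [mem_tree]
    intro i a b
    have e : ∀ u v : Fin n, u = v := fun u v => Fin.ext (by omega)
    simp [e (c a) a, e (c b) b]
  have h2' : ∃ k, (c * x * c⁻¹) ^ 2 ^ k = 1 := by
    obtain ⟨k, hk⟩ := h2
    exact ⟨k, by rw [conj_pow, hk, mul_one, mul_inv_cancel]⟩
  have hc : c ∈ levelStab n 1 := by
    intro a b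
    rw [pow_one, mate_iff hx' h2' (sep_conj hs c), mate_iff hx h2 hs]
    exact mate_conj c a b
  obtain ⟨c₀, hc₀⟩ := exists_half hc
  obtain ⟨x₀, hx₀⟩ := exists_half (tree_le_levelStab 1 hx)
  have hx₀t := half_mem_tree hx hx₀
  have hpow : ∀ (k : ℕ) (a : Fin n), ((x ^ k) a).val / 2 = extNat (x₀ ^ k) (a.val / 2) := by
    intro k
    induction k with
    | zero => intro a; simp [extNat]
    | succ k ih => intro a; rw [pow_succ', Perm.mul_apply, hx₀, ih, ← extNat_mul, ← pow_succ']
  have hx₀' : c₀ * x₀ * c₀⁻¹ ∈ tree (n / 2) := by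
    refine half_mem_tree hx' fun a => ?_
    obtain ⟨a, rfl⟩ := c.surjective a
    simp only [Perm.mul_apply, Perm.inv_def, Equiv.symm_apply_apply]
    rw [hc₀, hx₀, hc₀ a, ← extNat_mul, ← extNat_mul, ← Perm.inv_def, inv_mul_cancel_right]
  -- the element induced on the pairs
  have hord : ∃ k, x₀ ^ 2 ^ k = 1 := by
    obtain ⟨k, hk⟩ := h2
    refine ⟨k, half_unique fun a => ?_⟩
    rw [← hpow, hk]
    simp [extNat]
  let pt : Fin (n / 2) → Fin n := fun P => ⟨2 * P.val, by omega⟩
  let pt' : Fin (n / 2) → Fin n := fun P => ⟨2 * P.val + 1, by omega⟩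
  have hpp : ∀ P, (pt P).val / 2 = (pt' P).val / 2 ∧ pt P ≠ pt' P := fun P => by
    constructor
    · simp only [pt, pt']; omega
    · intro e
      have := congrArg Fin.val e
      simp only [pt, pt'] at this
      omega
  have hiff : ∀ (k : ℕ) (P : Fin (n / 2)), (x₀ ^ k) P = P ↔
      ((x ^ k) (pt P) = pt P ∨ (x ^ k) (pt P) = pt' P) := by
    intro k P
    have h1 := hpow k (pt P)
    simp only [pt, extNat, Nat.mul_div_cancel_left _ two_pos, P.isLt, dif_pos, Fin.eta] at h1
    rw [Fin.ext_iff, ← h1]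
    constructor
    · intro h
      rcases (show ((x ^ k) (pt P)).val = 2 * P.val ∨ ((x ^ k) (pt P)).val = 2 * P.val + 1 by
        simp only [pt]; omega) with e | e
      exacts [Or.inl (Fin.ext e), Or.inr (Fin.ext e)]
    · rintro (e | e) <;>
        · have := congrArg Fin.val e
          simp only [pt, pt'] at this
          omega
  have hs₀ : Sep x₀ := by
    refine ⟨fun P Q R hP hQ hR => ?_, fun P Q hP hQ hpq => ?_⟩
    · have hcase : ∀ P, x₀ P = P → x (pt P) = pt P ∨ x (pt P) = pt' P := fun P h => by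
        simpa using (hiff 1 P).1 (by simpa using h)
      have hfix : ∀ P Q, x (pt P) = pt P → x (pt Q) = pt Q → P = Q := fun P Q hP hQ => by
        rcases mate_iff hx h2 hs (pt P) (pt' P) |>.1 (hpp P).1 with e | ⟨-, hP'⟩ | ⟨k, hk, -⟩
        · exact absurd e (hpp P).2
        · rcases hs.1 _ _ _ hP hP' hQ with e | e | e
          · exact absurd e (hpp P).2
          · have := congrArg Fin.val e
            simp only [pt, pt'] at this
            omega
          · have := congrArg Fin.val e
            simp only [pt] at this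
            exact Fin.ext (by omega)
        · exact absurd (((pow_apply_eq_self_iff k).2
            (by rw [per_eq_one_iff.2 hP]; exact one_dvd _)).symm.trans hk) (hpp P).2
      have hswap : ∀ P Q, x (pt P) = pt' P → x (pt Q) = pt' Q → P = Q := fun P Q hP hQ => by
        have hsw : ∀ P, x (pt P) = pt' P → x (pt' P) = pt P := fun P hP => by
          have h1 := (pow_levelStab hx 1 (pt P) (pt' P)).2 (hpp P).1
          rw [pow_one, hP] at h1
          have h3 : x (pt' P) ≠ pt' P := fun e => (hpp P).2 (x.injective (hP.trans e.symm))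
          have h4 : (x (pt' P)).val ≠ (pt' P).val := fun e => h3 (Fin.ext e)
          apply Fin.ext
          simp only [pt, pt'] at h1 h4 ⊢
          omega
        have hper : ∀ P, x (pt P) = pt' P → per x (pt P) = 2 := fun P hP => by
          have h1 : per x (pt P) ∣ 2 := (pow_apply_eq_self_iff _).1 (by
            rw [pow_two, Perm.mul_apply, hP, hsw P hP])
          rcases (Nat.dvd_prime Nat.prime_two).1 h1 with e | e
          · exact absurd ((per_eq_one_iff.1 e).symm.trans hP) (hpp P).2
          · exact e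
        obtain ⟨k, hk⟩ := (hs.2 (pt P) (pt Q) (fun e => (hpp P).2 (e.symm.trans hP))
          (fun e => (hpp Q).2 (e.symm.trans hQ)) ((hper P hP).trans (hper Q hQ).symm)).exists_nat_pow_eq
        have hall : ∀ i : ℕ, (x ^ i) (pt P) = pt P ∨ (x ^ i) (pt P) = pt' P := by
          intro i
          induction i with
          | zero => exact Or.inl rfl
          | succ i ih =>
            rw [pow_succ', Perm.mul_apply]
            rcases ih with e | e
            · exact Or.inr (by rw [e, hP])
            · exact Or.inl (by rw [e, hsw P hP])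
        rcases hall k with e | e <;>
          · have := congrArg Fin.val (hk.symm.trans e)
            simp only [pt, pt'] at this
            exact Fin.ext (by omega)
      rcases hcase P hP with a | a <;> rcases hcase Q hQ with b | b <;>
        rcases hcase R hR with d | d
      all_goals
        first
          | exact Or.inl (hfix _ _ a b)
          | exact Or.inl (hswap _ _ a b)
          | exact Or.inr (Or.inl (hfix _ _ b d))
          | exact Or.inr (Or.inl (hswap _ _ b d))
          | exact Or.inr (Or.inr (hfix _ _ a d))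
          | exact Or.inr (Or.inr (hswap _ _ a d))
    · have hmv : ∀ P, x₀ P ≠ P → x (pt P) ≠ pt P := fun P hP e =>
        hP (by simpa using (hiff 1 P).2 (Or.inl (by simpa using e)))
      have hT : ∀ P, x₀ P ≠ P → per x (pt P) = 2 * per x₀ P := by
        intro P hP
        rcases mate_iff hx h2 hs (pt P) (pt' P) |>.1 (hpp P).1 with e | ⟨e, -⟩ | ⟨j, hj, hj'⟩
        · exact absurd e (hpp P).2
        · exact absurd e (hmv P hP)
        obtain ⟨e, he⟩ := exists_per_eq h2 (pt P)
        cases e with
        | zero => exact absurd (per_eq_one_iff.1 he) (hmv P hP)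
        | succ e =>
          have hhalf : (x ^ 2 ^ e) (pt P) = pt' P := by
            have hsq : (x ^ 2 ^ e) ((x ^ 2 ^ e) (pt P)) = pt P := by
              rw [← Perm.mul_apply, ← pow_add]
              exact (pow_apply_eq_self_iff _).2 (by rw [he, pow_succ, mul_two])
            have hne' : (x ^ 2 ^ e) (pt P) ≠ pt P := fun e' => by
              have h3 := (pow_apply_eq_self_iff _).1 e'
              rw [he] at h3
              exact absurd (Nat.le_of_dvd (Nat.two_pow_pos e) h3)
                (not_le.2 (Nat.pow_lt_pow_right one_lt_two (Nat.lt_succ_self e)))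
            exact mate_unique h2 hj hj' rfl hsq (hpp P).2.symm hne'
          have h4 : per x₀ P = 2 ^ e := by
            refine Nat.dvd_antisymm ((pow_apply_eq_self_iff _).1 ((hiff _ P).2 (Or.inr hhalf))) ?_
            rcases (hiff (per x₀ P) P).1 ((pow_apply_eq_self_iff _).2 dvd_rfl) with e' | e'
            · have h3 := (pow_apply_eq_self_iff _).1 e'
              rw [he] at h3
              exact dvd_trans (pow_dvd_pow 2 (Nat.le_succ e)) h3
            · have h5 : (x ^ (2 ^ e + per x₀ P)) (pt P) = pt P := by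
                rw [pow_add, Perm.mul_apply, e']
                have h1 := (pow_levelStab hx (2 ^ e) (pt P) (pt' P)).2 (hpp P).1
                rw [hhalf] at h1
                have h6 : (x ^ 2 ^ e) (pt' P) ≠ pt' P := fun e' =>
                  (hpp P).2 ((x ^ 2 ^ e).injective (hhalf.trans e'.symm))
                have h7 : ((x ^ 2 ^ e) (pt' P)).val ≠ (pt' P).val := fun e' => h6 (Fin.ext e')
                apply Fin.ext
                simp only [pt, pt'] at h1 h7 ⊢
                omega
              have h3 := (pow_apply_eq_self_iff _).1 h5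
              rw [he] at h3
              exact (Nat.dvd_add_right dvd_rfl).1 (dvd_trans (pow_dvd_pow 2 (Nat.le_succ e)) h3)
          rw [he, h4, pow_succ']
      obtain ⟨k, hk⟩ := (hs.2 (pt P) (pt Q) (hmv P hP) (hmv Q hQ)
        (by rw [hT P hP, hT Q hQ, hpq])).exists_nat_pow_eq
      refine ⟨(k : ℤ), ?_⟩
      rw [zpow_natCast]
      have h1 := hpow k (pt P)
      rw [hk] at h1
      simp only [pt, extNat, Nat.mul_div_cancel_left _ two_pos, P.isLt, dif_pos, Fin.eta] at h1
      exact Fin.ext h1.symm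
  exact mem_tree_of_half (IH (n / 2) (by omega) x₀ c₀ hx₀t hx₀' hord hs₀) hc₀

theorem sep_of_cycleType {x : Perm (Fin n)} (h1 : n ≤ x.support.card + 2) (h2 : x.cycleType.Nodup) :
    Sep x := by
  classical
  refine ⟨fun a b d ha hb hd => ?_, fun a b ha hb h => ?_⟩
  · by_contra hc
    push Not at hc
    have h3 : ({a, b, d} : Finset (Fin n)) ⊆ x.supportᶜ := fun y hy => by
      simp only [Finset.mem_insert, Finset.mem_singleton] at hy
      rcases hy with rfl | rfl | rfl <;> simp [*]
    have h4 := Finset.card_le_card h3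
    rw [Finset.card_compl, Fintype.card_fin, Finset.card_eq_three.2 ⟨a, b, d, hc.1, hc.2.2, hc.2.1, rfl⟩]
      at h4
    omega
  · have hca := Perm.cycleOf_mem_cycleFactorsFinset_iff.2 (Perm.mem_support.2 ha)
    have hcb := Perm.cycleOf_mem_cycleFactorsFinset_iff.2 (Perm.mem_support.2 hb)
    rw [Perm.cycleType_def] at h2
    have he : (x.cycleOf a).support.card = (x.cycleOf b).support.card := by
      rw [← (x.isCycle_cycleOf ha).orderOf, ← (x.isCycle_cycleOf hb).orderOf]
      exact h
    have := Multiset.inj_on_of_nodup_map h2 _ hca _ hcb he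
    have hb' : b ∈ (x.cycleOf a).support := by
      rw [this, Perm.mem_support_cycleOf_iff' hb]
    exact (Perm.mem_support_cycleOf_iff' ha).1 hb'

theorem cycleType_of_sep {x : Perm (Fin n)} (hs : Sep x) :
    n ≤ x.support.card + 2 ∧ x.cycleType.Nodup := by
  classical
  constructor
  · by_contra hc
    have h3 : 2 < x.supportᶜ.card := by rw [Finset.card_compl, Fintype.card_fin]; omega
    obtain ⟨a, ha, b, hb, d, hd, hab, had, hbd⟩ := Finset.two_lt_card.1 h3
    simp only [Finset.mem_compl, Perm.notMem_support] at ha hb hd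
    rcases hs.1 a b d ha hb hd with e | e | e
    exacts [hab e, hbd e, had e]
  · rw [Perm.cycleType_def]
    refine Multiset.Nodup.map_on (fun s hs₀ t ht₀ he => ?_) x.cycleFactorsFinset.2
    have hs' : s ∈ x.cycleFactorsFinset := hs₀
    have ht : t ∈ x.cycleFactorsFinset := ht₀
    obtain ⟨a, ha⟩ := (Perm.mem_cycleFactorsFinset_iff.1 hs').1.nonempty_support
    obtain ⟨b, hb⟩ := (Perm.mem_cycleFactorsFinset_iff.1 ht).1.nonempty_support
    have hsa := Perm.cycle_is_cycleOf ha hs'
    have htb := Perm.cycle_is_cycleOf hb ht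
    have hax : x a ≠ a := Perm.mem_support.1 (Perm.mem_cycleFactorsFinset_support_le hs' ha)
    have hbx : x b ≠ b := Perm.mem_support.1 (Perm.mem_cycleFactorsFinset_support_le ht hb)
    rw [hsa, htb]
    refine Perm.SameCycle.cycleOf_eq (hs.2 a b hax hbx ?_)
    show orderOf (x.cycleOf a) = orderOf (x.cycleOf b)
    rw [(x.isCycle_cycleOf hax).orderOf, (x.isCycle_cycleOf hbx).orderOf, ← hsa, ← htb]
    exact he

/-- If only one Sylow subgroup contains `x`, then `x` separates its orbits. -/
theorem sep_of_unique {x : Perm (Fin n)} (h2 : ∃ k, x ^ 2 ^ k = 1) {P : Sylow 2 (Perm (Fin n))}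
    (hP : ∀ Q : Sylow 2 (Perm (Fin n)), x ∈ (Q : Subgroup (Perm (Fin n))) → Q = P) : Sep x := by
  classical
  have hle : ∀ H : Subgroup (Perm (Fin n)), IsPGroup 2 H → x ∈ H → H ≤ P := fun H hH hxH => by
    obtain ⟨Q, hQ⟩ := hH.exists_le_sylow
    exact hP Q (hQ hxH) ▸ hQ
  have h3 : ∀ a b d : Fin n, a ≠ b → a ≠ d → b ≠ d → swap a b ∈ (P : Subgroup (Perm (Fin n))) →
      swap b d ∈ (P : Subgroup (Perm (Fin n))) → False := by
    intro a b d hab had hbd h1 h2
    obtain ⟨k, hk⟩ := P.2 ⟨_, mul_mem h1 h2⟩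
    have h3 : (swap a b * swap b d) ^ 2 ^ k = 1 := congrArg Subtype.val hk
    have h4 := orderOf_dvd_of_pow_eq_one h3
    have h5 : orderOf (swap a b * swap b d) = 3 := by
      rw [swap_comm a b]
      exact (Perm.isThreeCycle_swap_mul_swap_same hab.symm hbd had).orderOf
    rw [h5] at h4
    exact absurd (Nat.prime_three.dvd_of_dvd_pow h4) (by decide)
  have hx2 : IsPGroup 2 (Subgroup.zpowers x) := by
    obtain ⟨k, hk⟩ := h2
    obtain ⟨i, -, hi⟩ := (Nat.dvd_prime_pow Nat.prime_two).1 (orderOf_dvd_of_pow_eq_one hk)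
    exact IsPGroup.of_card (n := i) (by rw [Nat.card_zpowers, hi])
  -- transpositions joining two orbits of equal length
  have hjoin : ∀ a b : Fin n, per x a = per x b → ¬ x.SameCycle a b →
      swap a b ∈ (P : Subgroup (Perm (Fin n))) := by
    intro a b hab hns
    let S : Set (Perm (Fin n)) := Set.range fun k : ℕ => swap ((x ^ k) a) ((x ^ k) b)
    let N : Subgroup (Perm (Fin n)) := Subgroup.closure S
    have hsame : ∀ i j : ℕ, (x ^ i) a = (x ^ j) a → (x ^ i) b = (x ^ j) b := by
      intro i j h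
      obtain ⟨e, he⟩ := exists_per_eq h2 a
      obtain ⟨k, hk⟩ := h2
      -- compare through a common multiple
      have hinv : ∀ c : Fin n, (x ^ i) c = (x ^ j) c ↔ (x ^ (j + (2 ^ k - 1) * i)) c = c := by
        intro c
        have hone : x ^ ((2 ^ k - 1) * i) * x ^ i = 1 := by
          rw [← pow_add, ← Nat.succ_mul, Nat.succ_eq_add_one, Nat.sub_add_cancel Nat.one_le_two_pow,
            pow_mul, hk, one_pow]
        rw [add_comm, pow_add, Perm.mul_apply]
        constructor
        · intro h
          rw [← h, ← Perm.mul_apply, hone, Perm.one_apply]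
        · intro h
          refine (x ^ ((2 ^ k - 1) * i)).injective ?_
          rw [← Perm.mul_apply, hone, Perm.one_apply, h]
      rw [hinv] at h ⊢
      rw [pow_apply_eq_self_iff] at h ⊢
      rwa [← hab]
    have hne : ∀ i j : ℕ, (x ^ i) a ≠ (x ^ j) b := fun i j e => hns
      ((Perm.sameCycle_pow_right.2 (Perm.SameCycle.refl x a)).trans
        (e ▸ (Perm.sameCycle_pow_left.2 (Perm.SameCycle.refl x b) : x.SameCycle ((x ^ j) b) b)))
    have hsamb : ∀ i j : ℕ, (x ^ i) b = (x ^ j) b → (x ^ i) a = (x ^ j) a := by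
      intro i j h
      obtain ⟨k, hk⟩ := h2
      have hinv : ∀ c : Fin n, (x ^ i) c = (x ^ j) c ↔ (x ^ (j + (2 ^ k - 1) * i)) c = c := by
        intro c
        have hone : x ^ ((2 ^ k - 1) * i) * x ^ i = 1 := by
          rw [← pow_add, ← Nat.succ_mul, Nat.succ_eq_add_one, Nat.sub_add_cancel Nat.one_le_two_pow,
            pow_mul, hk, one_pow]
        rw [add_comm, pow_add, Perm.mul_apply]
        constructor
        · intro h
          rw [← h, ← Perm.mul_apply, hone, Perm.one_apply]
        · intro h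
          refine (x ^ ((2 ^ k - 1) * i)).injective ?_
          rw [← Perm.mul_apply, hone, Perm.one_apply, h]
      rw [hinv] at h ⊢
      rw [pow_apply_eq_self_iff] at h ⊢
      rwa [hab]
    have hcomm : ∀ u ∈ S, ∀ v ∈ S, u * v = v * u := by
      rintro _ ⟨i, rfl⟩ _ ⟨j, rfl⟩
      by_cases h : (x ^ i) a = (x ^ j) a
      · beta_reduce
        rw [h, hsame i j h]
      · have h' : (x ^ i) b ≠ (x ^ j) b := fun e => h (hsamb i j e)
        refine (Perm.Disjoint.commute fun c => ?_).eq
        by_cases h1 : c = (x ^ i) a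
        · subst h1
          exact Or.inr (swap_apply_of_ne_of_ne h (hne i j))
        by_cases h2 : c = (x ^ i) b
        · subst h2
          exact Or.inr (swap_apply_of_ne_of_ne (hne j i).symm h')
        · exact Or.inl (swap_apply_of_ne_of_ne h1 h2)
    have hN : IsPGroup 2 N := by
      rintro ⟨g, hg⟩
      refine ⟨1, Subtype.ext ?_⟩
      show g ^ 2 ^ 1 = 1
      have hab' : IsMulCommutative N := Subgroup.isMulCommutative_closure hcomm
      induction hg using Subgroup.closure_induction with
      | mem u hu =>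
        obtain ⟨i, rfl⟩ := hu
        rw [pow_one, pow_two, swap_mul_self]
      | one => simp
      | mul u v hu hv e₁ e₂ =>
        have hc : Commute u v := congrArg Subtype.val (hab'.is_comm.comm ⟨u, hu⟩ ⟨v, hv⟩)
        rw [hc.mul_pow, e₁, e₂, one_mul]
      | inv u _ e₁ => rw [inv_pow, e₁, inv_one]
    have hxN : Subgroup.zpowers x ≤ Subgroup.normalizer (N : Set (Perm (Fin n))) := by
      rw [Subgroup.zpowers_le]
      have hmap : ∀ u ∈ S, x * u * x⁻¹ ∈ S := by
        rintro _ ⟨i, rfl⟩
        refine ⟨i + 1, ?_⟩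
        show swap ((x ^ (i + 1)) a) ((x ^ (i + 1)) b) = _
        rw [pow_succ', Perm.mul_apply, Perm.mul_apply, swap_apply_apply]
      have hN' : N.map (MulAut.conj x).toMonoidHom ≤ N := by
        rw [MonoidHom.map_closure, Subgroup.closure_le]
        rintro _ ⟨u, hu, rfl⟩
        exact Subgroup.subset_closure (hmap u hu)
      have he : N.map (MulAut.conj x).toMonoidHom = N :=
        Subgroup.eq_of_le_of_card_ge hN'
          (le_of_eq (Subgroup.card_map_of_injective (MulAut.conj x).injective).symm)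
      rw [Subgroup.mem_normalizer_iff]
      intro u
      constructor
      · intro hu
        rw [← he]
        exact Subgroup.mem_map_of_mem _ hu
      · intro hu
        rw [← he] at hu
        obtain ⟨w, hw, hwe⟩ := hu
        rwa [← mul_left_cancel (mul_right_cancel hwe : x * w = x * u)]
    refine (hle _ (hx2.to_sup_of_normal_right' hN hxN)
      (Subgroup.mem_sup_left (Subgroup.mem_zpowers x))) (Subgroup.mem_sup_right ?_)
    exact Subgroup.subset_closure ⟨0, rfl⟩
  refine ⟨fun a b d ha hb hd => ?_, fun a b ha hb hab => ?_⟩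
  · by_contra hc
    push Not at hc
    have hns : ∀ u v : Fin n, x u = u → u ≠ v → ¬ x.SameCycle u v := fun u v hu huv hs => by
      obtain ⟨k, hk⟩ := hs.exists_nat_pow_eq
      exact huv (((pow_apply_eq_self_iff k).2
        (by rw [per_eq_one_iff.2 hu]; exact one_dvd _)).symm.trans hk)
    exact h3 a b d hc.1 hc.2.2 hc.2.1
      (hjoin a b (by rw [per_eq_one_iff.2 ha, per_eq_one_iff.2 hb]) (hns a b ha hc.1))
      (hjoin b d (by rw [per_eq_one_iff.2 hb, per_eq_one_iff.2 hd]) (hns b d hb hc.2.1))
  · by_contra hns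
    set s := x.cycleOf a with hsdef
    have hs : s ∈ x.cycleFactorsFinset :=
      Perm.cycleOf_mem_cycleFactorsFinset_iff.2 (Perm.mem_support.2 ha)
    have hsP : s ∈ (P : Subgroup (Perm (Fin n))) := by
      have hcm : Commute s x := Perm.self_mem_cycle_factors_commute hs
      have hS2 : IsPGroup 2 (Subgroup.zpowers s) := by
        obtain ⟨e, he⟩ := exists_per_eq h2 a
        exact IsPGroup.of_card (n := e) (by rw [Nat.card_zpowers]; exact he)
      refine (hle _ (hS2.to_sup_of_normal_right' hx2 ?_)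
        (Subgroup.mem_sup_right (Subgroup.mem_zpowers x)))
        (Subgroup.mem_sup_left (Subgroup.mem_zpowers s))
      rw [Subgroup.zpowers_le, Subgroup.mem_normalizer_iff]
      intro u
      constructor
      · rintro ⟨m, rfl⟩
        exact ⟨m, by simp [(hcm.zpow_right m).eq]⟩
      · rintro ⟨m, hm⟩
        refine ⟨m, ?_⟩
        have h' : u = s⁻¹ * x ^ m * s := by
          rw [show (x ^ m) = s * u * s⁻¹ from hm]; group
        show x ^ m = u
        rw [h', mul_assoc, ← (hcm.zpow_right m).eq, inv_mul_cancel_left]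
    have hab' : swap a b ∈ (P : Subgroup (Perm (Fin n))) := hjoin a b hab hns
    have hsb : s b = b := Perm.cycleOf_apply_of_not_sameCycle hns
    have hsa : s a = x a := Perm.cycleOf_apply_self x a
    have h4 : swap b (x a) ∈ (P : Subgroup (Perm (Fin n))) := by
      have := mul_mem (mul_mem hsP hab') (inv_mem hsP)
      rwa [← swap_apply_apply, hsa, hsb, swap_comm] at this
    refine h3 a b (x a) (fun e => hns (e ▸ Perm.SameCycle.refl x a)) (Ne.symm ha) ?_ hab' h4
    intro e
    exact hns (e ▸ Perm.sameCycle_apply_right.2 (Perm.SameCycle.refl x a))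

/-- **Elements in a unique Sylow 2-subgroup of the symmetric group.** -/
theorem existsUnique_sylow_iff {x : Perm (Fin n)} (hx : ∃ k : ℕ, orderOf x = 2 ^ k) :
    (∃! P : Sylow 2 (Perm (Fin n)), x ∈ P) ↔ (n ≤ x.support.card + 2 ∧ x.cycleType.Nodup) := by
  have h2 : ∃ k, x ^ 2 ^ k = 1 := by
    obtain ⟨k, hk⟩ := hx
    exact ⟨k, by rw [← hk, pow_orderOf_eq_one]⟩
  constructor
  · rintro ⟨P, -, hP⟩
    exact cycleType_of_sep (sep_of_unique h2 hP)
  · rintro ⟨h1, h1'⟩
    have hs := sep_of_cycleType h1 h1'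
    obtain ⟨T, hT⟩ := exists_sylow_eq_tree n
    obtain ⟨i, hi⟩ := hx
    have hz : IsPGroup 2 (Subgroup.zpowers x) :=
      IsPGroup.of_card (n := i) (by rw [Nat.card_zpowers, hi])
    obtain ⟨P, hP⟩ := hz.exists_le_sylow
    refine ⟨P, hP (Subgroup.mem_zpowers x), fun Q hQ => ?_⟩
    obtain ⟨g, rfl⟩ := MulAction.exists_smul_eq (Perm (Fin n)) T P
    obtain ⟨g', rfl⟩ := MulAction.exists_smul_eq (Perm (Fin n)) T Q
    have hmem : ∀ g : Perm (Fin n), x ∈ ((g • T : Sylow 2 (Perm (Fin n))) : Subgroup (Perm (Fin n))) →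
        g⁻¹ * x * g ∈ tree n := fun g h => by
      rw [Sylow.coe_subgroup_smul, Subgroup.mem_pointwise_smul_iff_inv_smul_mem, hT] at h
      simpa [MulAut.smul_def] using h
    have hc : g'⁻¹ * g ∈ tree n := by
      have hsg : Sep (g⁻¹ * x * g) := by
        have := sep_conj hs g⁻¹
        rwa [inv_inv] at this
      refine mem_tree_of_sep n (g⁻¹ * x * g) (g'⁻¹ * g) (hmem g (hP (Subgroup.mem_zpowers x))) ?_ ?_ hsg
      · rw [show g'⁻¹ * g * (g⁻¹ * x * g) * (g'⁻¹ * g)⁻¹ = g'⁻¹ * x * g' by group]
        exact hmem g' hQ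
      · obtain ⟨k, hk⟩ := h2
        exact ⟨k, by rw [show g⁻¹ * x * g = g⁻¹ * x * g⁻¹⁻¹ by rw [inv_inv], conj_pow, hk, mul_one,
          mul_inv_cancel]⟩
    have hsmul : (g'⁻¹ * g) • T = T := Sylow.smul_eq_iff_mem_normalizer.2 (by
      show _ ∈ Subgroup.normalizer ((T : Subgroup (Perm (Fin n))) : Set (Perm (Fin n)))
      rw [hT]; exact Subgroup.le_normalizer hc)
    rw [mul_smul, inv_smul_eq_iff] at hsmul
    exact hsmul.symm

end CfsgLib.SylowAlt
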